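import Groth.Agent.ZarConn.Fibre
import Groth.Agent.GeomFib.FieldExt
import Groth.Agent.LocNoethTop.Basic
import Groth.Agent.Unibranch.DvrConn
import Groth.Agent.Unibranch.SectionComp
import Groth.Agent.RedSepLib.Basic
import Groth.Agent.ConsEngine.Fiber

/-!
# Connected components of proper schemes over henselian discrete valuation rings
-/

universe u

open CategoryTheory Limits AlgebraicGeometry IsLocalRing TopologicalSpace

set_option backward.isDefEq.respectTransparency false
set_option linter.style.haveILetI false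
set_option linter.overlappingInstances false
set_option linter.unusedSectionVars false

noncomputable section

namespace Groth.Agent.ZarConn

section Top

variable {α : Type u} [TopologicalSpace α] (F : Set α)

theorem card_components_le_of_meet (hmeet : ∀ x, ∃ y ∈ F, y ∈ connectedComponent x) :
    ENat.card (_root_.ConnectedComponents α) ≤ ENat.card (_root_.ConnectedComponents F) := by
  let m := (continuous_subtype_val (p := (· ∈ F))).connectedComponentsMap
  have hm : Function.Surjective m := by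
    intro q
    obtain ⟨x, rfl⟩ := _root_.ConnectedComponents.surjective_coe q
    obtain ⟨y, hyF, hy⟩ := hmeet x
    exact ⟨_root_.ConnectedComponents.mk ⟨y, hyF⟩, _root_.ConnectedComponents.coe_eq_coe'.mpr hy⟩
  exact ENat.card_le_card_of_injective (Function.injective_surjInv hm)

theorem card_components_eq_of_meet (hmeet : ∀ x, ∃ y ∈ F, y ∈ connectedComponent x)
    (hsame : ∀ a ∈ F, ∀ b ∈ F, b ∈ connectedComponent a → b ∈ connectedComponentIn F a) :
    ENat.card (_root_.ConnectedComponents F) = ENat.card (_root_.ConnectedComponents α) := by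
  let m := (continuous_subtype_val (p := (· ∈ F))).connectedComponentsMap
  refine le_antisymm (ENat.card_le_card_of_injective (f := m) ?_) (card_components_le_of_meet F hmeet)
  intro p q hpq
  obtain ⟨⟨a, ha⟩, rfl⟩ := _root_.ConnectedComponents.surjective_coe p
  obtain ⟨⟨b, hb⟩, rfl⟩ := _root_.ConnectedComponents.surjective_coe q
  have h := hsame a ha b hb (_root_.ConnectedComponents.coe_eq_coe'.mp hpq.symm)
  rw [connectedComponentIn_eq_image ha] at h
  obtain ⟨b', hb', hbb'⟩ := h
  obtain rfl : b' = ⟨b, hb⟩ := Subtype.ext hbb'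
  exact (_root_.ConnectedComponents.coe_eq_coe'.mpr hb').symm

end Top

/-- A monomorphism of schemes onto a single point identifies the base change with the fibre. -/
theorem card_pullback_point {X Y Z : Scheme.{u}} (f : X ⟶ Y) (v : Z ⟶ Y) [IsPreimmersion v] (y : Y)
    (hv : Set.range v = {y}) :
    ENat.card (_root_.ConnectedComponents ↥(pullback f v)) =
      ENat.card (_root_.ConnectedComponents (f.base ⁻¹' {y})) := by
  have hr : Set.range (pullback.fst f v) = f.base ⁻¹' {y} := by
    rw [Scheme.Pullback.range_fst, hv]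
  exact GeomFib.card_connectedComponents_congr
    (((pullback.fst f v).isEmbedding.toHomeomorph).trans (Homeomorph.setCongr hr))

/-- A fibre has at most as many components as the geometric fibre. -/
theorem card_fibre_le {X Y : Scheme.{u}} (f : X ⟶ Y) (y : Y) :
    ENat.card (_root_.ConnectedComponents (f.base ⁻¹' {y})) ≤ MoreMor.nGeomConnComp f y := by
  let k := Y.residueField y
  let v := GeomFib.geomPt (Y := Y) y
  rw [(GeomFib.nGeom_eq f v y (by
    show Y.fromSpecResidueField y _ = y
    exact Scheme.fromSpecResidueField_apply _ _)).2]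
  obtain ⟨q, -, hq⟩ := GeomFib.exists_bc (K := k) (L := AlgebraicClosure k) f (Y.fromSpecResidueField y) v rfl
  haveI : Surjective q := MorphismProperty.of_isPullback hq.flip GeomConn.surjective_Spec_field
  rw [← card_pullback_point f (Y.fromSpecResidueField y) y (Y.range_fromSpecResidueField y)]
  have hs := GeomConn.connectedComponents_map_surjective q q.surjective
  exact ENat.card_le_card_of_injective (Function.injective_surjInv hs)

variable {A : Type u} [CommRing A] {X : Scheme.{u}} (f : X ⟶ Spec (CommRingCat.of A))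

section Henselian

variable [IsLocalRing A]

/-- The closed point. -/
abbrev cpt (A : Type u) [CommRing A] [IsLocalRing A] : ↥(Spec (CommRingCat.of A)) := closedPoint A

lemma isClosed_cpt : IsClosed ({cpt A} : Set ↥(Spec (CommRingCat.of A))) :=
  (PrimeSpectrum.isClosed_singleton_iff_isMaximal (closedPoint A)).mpr (maximalIdeal.isMaximal A)

/-- A geometric count over a closed point with algebraically closed residue field. -/
theorem nGeom_closed [IsAlgClosed (ResidueField A)] :
    MoreMor.nGeomConnComp f (cpt A) = ENat.card (_root_.ConnectedComponents (f.base ⁻¹' {cpt A})) := by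
  let v : Spec (CommRingCat.of (ResidueField A)) ⟶ Spec (CommRingCat.of A) :=
    Spec.map (CommRingCat.ofHom (residue A))
  haveI : IsClosedImmersion v := IsClosedImmersion.spec_of_surjective _ IsLocalRing.residue_surjective
  have hv : v (closedPoint (ResidueField A)) = cpt A := IsLocalRing.comap_closedPoint (residue A)
  rw [(GeomFib.nGeom_eq f v (cpt A) hv).2]
  refine card_pullback_point f v _ ?_
  refine Set.eq_singleton_iff_nonempty_unique_mem.mpr ⟨⟨_, ⟨closedPoint (ResidueField A), rfl⟩⟩, ?_⟩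
  rintro _ ⟨t, rfl⟩
  rw [show t = closedPoint (ResidueField A) from @Subsingleton.elim (PrimeSpectrum (ResidueField A)) _ _ _, hv]

lemma meet_closed [UniversallyClosed f] (x : X) : ∃ y ∈ f.base ⁻¹' {cpt A}, y ∈ connectedComponent x := by
  have h : IsClosed (f '' connectedComponent x) := f.isClosedMap _ isClosed_connectedComponent
  have : cpt A ∈ f '' connectedComponent x :=
    (IsLocalRing.specializes_closedPoint (R := A) (f x)).mem_closed h ⟨x, mem_connectedComponent, rfl⟩
  obtain ⟨y, hy, hfy⟩ := this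
  exact ⟨y, hfy, hy⟩

lemma meet_compl (hlift : ∀ x, f x = cpt A → ∃ ζ, ζ ⤳ x ∧ f ζ ≠ cpt A) (x : X) :
    ∃ ζ, ζ ⤳ x ∧ f ζ ≠ cpt A := by
  by_cases h : f x = cpt A
  · exact hlift x h
  · exact ⟨x, specializes_rfl, h⟩

variable [IsNoetherianRing A] [HenselianLocalRing A] [IsProper f] (a : A)

/-- Partitions of the closed fibre are cut out by clopen subsets. -/
theorem exists_clopen_of_lift (ha : a ∈ maximalIdeal A)
    (hpt : ∀ t : ↥(Spec (CommRingCat.of A)), t ≠ cpt A → a ∉ t.asIdeal)
    (hlift : ∀ x, f x = cpt A → ∃ ζ, ζ ⤳ x ∧ f ζ ≠ cpt A)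
    (C₁ C₂ : Set X) (h₁ : IsClosed C₁) (h₂ : IsClosed C₂) (hdisj : Disjoint C₁ C₂)
    (hF : ∀ x : X, f x = cpt A ↔ x ∈ C₁ ∪ C₂) {x₁ x₂ : X} (hx₁ : x₁ ∈ C₁) (hx₂ : x₂ ∈ C₂) :
    ∃ V : Set X, IsClopen V ∧ x₁ ∈ V ∧ x₂ ∉ V := by
  let i := X.nilradical.subschemeι
  haveI : AlgebraicGeometry.IsReduced X.nilradical.subscheme := RedSepLib.isReduced_subscheme_nilradical X
  have hsurj : Function.Surjective i := by
    intro x
    have : x ∈ Set.range i := by
      rw [Scheme.IdealSheafData.range_subschemeι, Scheme.support_nilradical]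
      trivial
    exact this
  letI : X.nilradical.subscheme.Over (Spec (CommRingCat.of A)) := ⟨i ≫ f⟩
  have hfi : ∀ p, (X.nilradical.subscheme ↘ Spec (CommRingCat.of A)) p = f (i p) := fun p ↦
    Scheme.Hom.comp_apply i f p
  haveI : IsProper (X.nilradical.subscheme ↘ Spec (CommRingCat.of A)) := inferInstanceAs (IsProper (i ≫ f))
  have hspec : ∀ p q, i p ⤳ i q → p ⤳ q := fun p q h ↦ i.isEmbedding.isInducing.specializes_iff.mp h
  haveI := mono_smulAb_of_dense A a (X := X.nilradical.subscheme) fun p ↦ by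
    obtain ⟨ζ, hζ, hζc⟩ := meet_compl f hlift (i p)
    obtain ⟨ζ, rfl⟩ := hsurj ζ
    refine ⟨ζ, hspec _ _ hζ, (mem_basicOpen_rho A a ζ).mpr (hpt _ ?_)⟩
    rw [hfi]; exact hζc
  obtain ⟨p₁, rfl⟩ := hsurj x₁
  obtain ⟨p₂, rfl⟩ := hsurj x₂
  obtain ⟨V, hV, hp₁, hp₂⟩ := exists_clopen_separating A a ha
    (fun p hp ↦ (mem_basicOpen_rho A a p).mpr (hpt _ hp))
    (i ⁻¹' C₁) (i ⁻¹' C₂) (h₁.preimage i.continuous) (h₂.preimage i.continuous) (hdisj.preimage _)
    (fun p ↦ by rw [hfi]; exact hF (i p)) hx₁ hx₂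
  let e := i.isEmbedding.toHomeomorphOfSurjective hsurj
  exact ⟨e '' V, ⟨e.isClosedMap V hV.1, e.isOpenMap V hV.2⟩, ⟨p₁, hp₁, rfl⟩,
    fun ⟨p, hp, he⟩ ↦ hp₂ (i.isEmbedding.injective he ▸ hp)⟩

/-- The closed fibre has as many components as the scheme. -/
theorem card_closed_fibre (ha : a ∈ maximalIdeal A)
    (hpt : ∀ t : ↥(Spec (CommRingCat.of A)), t ≠ cpt A → a ∉ t.asIdeal)
    (hlift : ∀ x, f x = cpt A → ∃ ζ, ζ ⤳ x ∧ f ζ ≠ cpt A) :
    ENat.card (_root_.ConnectedComponents (f.base ⁻¹' {cpt A})) = ENat.card (_root_.ConnectedComponents X) := by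
  refine card_components_eq_of_meet _ (meet_closed f) fun x₁ h₁ x₂ h₂ h12 ↦ ?_
  by_contra hne
  obtain ⟨O, hO⟩ := Unibranch.exists_opens_inter_eq f (cpt A) (x := x₁) h₁
  let F := f.base ⁻¹' {cpt A}
  have hFc : IsClosed F := isClosed_cpt.preimage f.continuous
  have hC : IsClosed (connectedComponentIn F x₁) := by
    rw [connectedComponentIn_eq_image h₁]
    exact hFc.isClosedEmbedding_subtypeVal.isClosedMap _ isClosed_connectedComponent
  obtain ⟨V, hV, hxV, hx₂V⟩ := exists_clopen_of_lift f a ha hpt hlift (connectedComponentIn F x₁) (F ∩ (O : Set X)ᶜ)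
    hC (hFc.inter O.2.isClosed_compl)
    (Set.disjoint_left.mpr fun x hx hx' ↦ hx'.2 (hO.symm ▸ hx : x ∈ (O : Set X) ∩ F).1)
    (fun x ↦ ⟨fun hx ↦ by
      by_cases hxO : x ∈ O
      · exact Or.inl (hO ▸ ⟨hxO, hx⟩)
      · exact Or.inr ⟨hx, hxO⟩,
      fun hx ↦ hx.elim (fun h ↦ connectedComponentIn_subset F x₁ h) (fun h ↦ h.1)⟩)
    (mem_connectedComponentIn h₁) (x₂ := x₂) ⟨h₂, fun hxO ↦ hne (hO ▸ ⟨hxO, h₂⟩)⟩
  exact hx₂V (hV.connectedComponent_subset hxV h12)

end Henselian

section Dvr

variable [IsDomain A] [IsDiscreteValuationRing A]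

/-- The generic point. -/
abbrev gpt (A : Type u) [CommRing A] [IsDomain A] : ↥(Spec (CommRingCat.of A)) :=
  (⟨⊥, Ideal.isPrime_bot⟩ : PrimeSpectrum A)

lemma eq_gpt {t : ↥(Spec (CommRingCat.of A))} (ht : t ≠ cpt A) : t = gpt A := by
  by_contra h
  have hne : t.asIdeal ≠ ⊥ := fun e ↦ h (PrimeSpectrum.ext e)
  exact ht (PrimeSpectrum.ext (IsLocalRing.eq_maximalIdeal (t.isPrime.isMaximal hne)))

lemma gpt_ne : gpt A ≠ cpt A := fun h ↦ by
  have := congrArg PrimeSpectrum.asIdeal h
  exact IsDiscreteValuationRing.not_a_field A this.symm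

lemma exists_uniformiser : ∃ a ∈ maximalIdeal A, ∀ t : ↥(Spec (CommRingCat.of A)), t ≠ cpt A → a ∉ t.asIdeal := by
  obtain ⟨ϖ, hϖ⟩ := IsDiscreteValuationRing.exists_irreducible A
  refine ⟨ϖ, hϖ.not_isUnit, fun t ht h ↦ hϖ.ne_zero ?_⟩
  rw [eq_gpt ht] at h
  exact h

variable (hlift : ∀ x, f x = cpt A → ∃ ζ, ζ ⤳ x ∧ f ζ = gpt A)

include hlift in
lemma meet_generic (x : X) : ∃ y ∈ f.base ⁻¹' {gpt A}, y ∈ connectedComponent x := by
  obtain ⟨ζ, hζ, hζc⟩ := meet_compl f (fun z hz ↦ by
    obtain ⟨ζ, h1, h2⟩ := hlift z hz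
    exact ⟨ζ, h1, by rw [h2]; exact gpt_ne⟩) x
  refine ⟨ζ, eq_gpt hζc, ?_⟩
  exact (isConnected_singleton (x := ζ)).isPreconnected.closure.subset_connectedComponent
    (specializes_iff_mem_closure.mp hζ) (subset_closure rfl)

variable [HenselianLocalRing A] [IsProper f] [IsAlgClosed (ResidueField A)]

include hlift in
lemma card_closed_eq_components :
    MoreMor.nGeomConnComp f (cpt A) = ENat.card (_root_.ConnectedComponents X) := by
  obtain ⟨a, ha, hpt⟩ := exists_uniformiser (A := A)
  rw [nGeom_closed, card_closed_fibre f a ha hpt fun x hx ↦ by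
    obtain ⟨ζ, h1, h2⟩ := hlift x hx
    exact ⟨ζ, h1, by rw [h2]; exact gpt_ne⟩]

include hlift in
/-- The geometric number of components can only grow on generisation. -/
theorem nGeom_le : MoreMor.nGeomConnComp f (cpt A) ≤ MoreMor.nGeomConnComp f (gpt A) := by
  rw [card_closed_eq_components f hlift]
  exact (card_components_le_of_meet _ (meet_generic f hlift)).trans (card_fibre_le f (gpt A))

include hlift in
/-- With a reduced special fibre the generic fibre has as many components as the scheme. -/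
theorem card_generic_fibre (hred : AlgebraicGeometry.IsReduced (f.fiber (cpt A))) :
    ENat.card (_root_.ConnectedComponents (f.base ⁻¹' {gpt A})) = ENat.card (_root_.ConnectedComponents X) := by
  haveI : IsLocallyNoetherian X := LocallyOfFiniteType.isLocallyNoetherian f
  haveI : CompactSpace X := QuasiCompact.compactSpace_of_compactSpace f
  haveI : IsNoetherian X := {}
  refine card_components_eq_of_meet _ (meet_generic f hlift) fun x₁ h₁ x₂ h₂ h12 ↦ ?_
  let O : X.Opens := ⟨connectedComponent x₁, LocNoethTop.isOpen_connectedComponent_of_noetherian x₁⟩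
  haveI : PreconnectedSpace O.toScheme := Subtype.preconnectedSpace isPreconnected_connectedComponent
  haveI : LocallyOfFiniteType (O.ι ≫ f) := inferInstance
  haveI : IsOpenImmersion (MoreMor.fiberMap O.ι f (cpt A)) :=
    MorphismProperty.of_isPullback (ConsEngine.isPullback_fiberMap O.ι f (cpt A)) inferInstance
  haveI : AlgebraicGeometry.IsReduced ((O.ι ≫ f).fiber (cpt A)) :=
    isReduced_of_isOpenImmersion (MoreMor.fiberMap O.ι f (cpt A))
  have h := Unibranch.isPreconnected_generic_fibre (O.ι ≫ f) isClosed_cpt (gpt_ne (A := A))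
    (fun t ht ↦ eq_gpt ht) inferInstance fun w hw ↦ by
      obtain ⟨ζ, hζ, hfζ⟩ := hlift (O.ι w) ((Scheme.Hom.comp_apply O.ι f w).symm.trans hw)
      have hm : ζ ∈ O := hζ.mem_open O.2 w.2
      exact ⟨⟨ζ, hm⟩, O.ι.isOpenEmbedding.isInducing.specializes_iff.mp hζ,
        (Scheme.Hom.comp_apply O.ι f _).trans hfζ⟩
  have himg : O.ι '' ((O.ι ≫ f).base ⁻¹' {gpt A}) ⊆ f.base ⁻¹' {gpt A} := by
    rintro _ ⟨w, hw, rfl⟩
    exact (Scheme.Hom.comp_apply O.ι f w).symm.trans hw
  exact (h.image O.ι O.ι.continuous.continuousOn).subset_connectedComponentIn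
    ⟨⟨x₁, mem_connectedComponent⟩, (Scheme.Hom.comp_apply O.ι f _).trans h₁, rfl⟩ himg
    ⟨⟨x₂, h12⟩, (Scheme.Hom.comp_apply O.ι f _).trans h₂, rfl⟩

end Dvr

end Groth.Agent.ZarConn
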