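import Groth.Agent.ZarConn.General
import Groth.Agent.ZarConn.Count

/-!
# Components of proper schemes over noetherian henselian local rings
-/

universe u

open CategoryTheory Limits AlgebraicGeometry IsLocalRing TopologicalSpace

set_option backward.isDefEq.respectTransparency false
set_option linter.style.haveILetI false
set_option linter.overlappingInstances false

noncomputable section

namespace Groth.Agent.ZarConn

variable {A : Type u} [CommRing A] [IsLocalRing A] {X : Scheme.{u}} (f : X ⟶ Spec (CommRingCat.of A))

/-- The connected components of the closed fibre are those of the scheme. -/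
theorem card_closedFibre_eq [IsNoetherianRing A] [HenselianLocalRing A] [IsProper f] :
    ENat.card (_root_.ConnectedComponents (f.base ⁻¹' {cpt A})) = ENat.card (_root_.ConnectedComponents X) := by
  refine card_components_eq_of_meet _ (meet_closed f) fun x₁ h₁ x₂ h₂ h12 ↦ ?_
  by_contra hne
  obtain ⟨O, hO⟩ := Unibranch.exists_opens_inter_eq f (cpt A) (x := x₁) h₁
  let F := f.base ⁻¹' {cpt A}
  have hFc : IsClosed F := isClosed_cpt.preimage f.continuous
  have hC : IsClosed (connectedComponentIn F x₁) := by
    rw [connectedComponentIn_eq_image h₁]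
    exact hFc.isClosedEmbedding_subtypeVal.isClosedMap _ isClosed_connectedComponent
  obtain ⟨V, hV, hCV, hdV⟩ := exists_clopen_extension f (connectedComponentIn F x₁) (F ∩ (O : Set X)ᶜ)
    hC (hFc.inter O.2.isClosed_compl)
    (Set.disjoint_left.mpr fun x hx hx' ↦ hx'.2 (hO.symm ▸ hx : x ∈ (O : Set X) ∩ F).1)
    (fun x ↦ ⟨fun hx ↦ by
      by_cases hxO : x ∈ O
      · exact Or.inl (hO ▸ ⟨hxO, hx⟩)
      · exact Or.inr ⟨hx, hxO⟩,
      fun hx ↦ hx.elim (fun h ↦ connectedComponentIn_subset F x₁ h) (fun h ↦ h.1)⟩)
  exact hdV.notMem_of_mem_left ⟨h₂, fun hxO ↦ hne (hO ▸ ⟨hxO, h₂⟩)⟩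
    (hV.connectedComponent_subset (hCV (mem_connectedComponentIn h₁)) h12)

/-- With a separably closed residue field the geometric count of the closed fibre is the plain one. -/
theorem nGeom_closed_sep [IsSepClosed (ResidueField A)] :
    MoreMor.nGeomConnComp f (cpt A) = ENat.card (_root_.ConnectedComponents (f.base ⁻¹' {cpt A})) := by
  let k := ResidueField A
  let v : Spec (CommRingCat.of k) ⟶ Spec (CommRingCat.of A) := Spec.map (CommRingCat.ofHom (residue A))
  haveI : IsClosedImmersion v := IsClosedImmersion.spec_of_surjective _ IsLocalRing.residue_surjective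
  have hv : v (closedPoint k) = cpt A := IsLocalRing.comap_closedPoint (residue A)
  let L := AlgebraicClosure k
  let w : Spec (CommRingCat.of L) ⟶ Spec (CommRingCat.of k) := Spec.map (CommRingCat.ofHom (algebraMap k L))
  have hwv : (w ≫ v) (closedPoint L) = cpt A := by
    rw [Scheme.Hom.comp_apply, ← hv]
    exact congrArg v (@Subsingleton.elim (PrimeSpectrum k) _ _ _)
  rw [(GeomFib.nGeom_eq f (w ≫ v) (cpt A) hwv).2]
  obtain ⟨q, -, hq⟩ := GeomFib.exists_bc f v (w ≫ v) rfl
  haveI : IsIntegralHom w := IsIntegralHom.SpecMap_iff.2 Algebra.IsIntegral.isIntegral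
  haveI : Surjective w := GeomConn.surjective_Spec_field
  haveI : IsPurelyInseparable k L := inferInstance
  haveI : UniversallyInjective w := by
    refine ((tfae_universallyInjective w).out 0 1).2 fun (M : Type u) [Field M] g₁ g₂ hg => ?_
    obtain ⟨a, rfl⟩ := Spec.map_surjective g₁
    obtain ⟨b, rfl⟩ := Spec.map_surjective g₂
    have hg' : Spec.map a ≫ w = Spec.map b ≫ w := hg
    rw [← Spec.map_comp, ← Spec.map_comp] at hg'
    have h1 := congrArg CommRingCat.Hom.hom (Spec.map_injective hg')
    exact congrArg Spec.map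
      (CommRingCat.hom_ext (IsPurelyInseparable.injective_comp_algebraMap k L M h1))
  haveI : IsIntegralHom q := MorphismProperty.of_isPullback hq.flip inferInstance
  haveI : Surjective q := MorphismProperty.of_isPullback hq.flip inferInstance
  haveI : UniversallyInjective q := MorphismProperty.of_isPullback hq.flip inferInstance
  rw [GeomFib.card_connectedComponents_congr (IsHomeomorph.homeomorph _ (GeomConn.isHomeomorph_of_integral q))]
  refine card_pullback_point f v _ ?_
  refine Set.eq_singleton_iff_nonempty_unique_mem.mpr ⟨⟨_, ⟨closedPoint k, rfl⟩⟩, ?_⟩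
  rintro _ ⟨t, rfl⟩
  rw [show t = closedPoint k from @Subsingleton.elim (PrimeSpectrum k) _ _ _, hv]

end Groth.Agent.ZarConn
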