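import Groth.Agent.ZarConn.ClosedInProper
import Groth.Agent.Chow.Strata

/-!
# Zariski connectedness over henselian pairs: proper morphisms, and lifting of open and closed proper parts

No finite presentation is assumed; finitely many quasi-projective schemes cover the given one.
-/

set_option autoImplicit false

universe u

open CategoryTheory CategoryTheory.Limits AlgebraicGeometry TopologicalSpace

set_option backward.isDefEq.respectTransparency false
set_option linter.style.haveILetI false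

noncomputable section

namespace Groth.Agent.ZarConn

variable {A : Type u} [CommRing A] (I : Ideal A)

/-- Projective space is proper and of finite presentation. -/
theorem isProper_lfp_projSpace (n : ℕ) :
    IsProper (CohB1.ProjSpaceOver.toBase n (Spec (CommRingCat.of A))) ∧
      LocallyOfFinitePresentation (CohB1.ProjSpaceOver.toBase n (Spec (CommRingCat.of A))) := by
  refine ⟨Chow.isProper_toBase n _, MorphismProperty.pullback_snd _ _ ?_⟩
  haveI := ProjMor.isProper_toSpec n (ULift.{u} ℤ)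
  haveI : IsNoetherianRing (ULift.{u} ℤ) := isNoetherianRing_of_ringEquiv ℤ ULift.ringEquiv.symm
  exact inferInstance

/-- Finitely many universally closed morphisms, jointly surjective. -/
theorem universallyClosed_of_jointly_surjective {X S : Scheme.{u}} (f : X ⟶ S) {ι : Type*} [Finite ι]
    (Z : ι → Scheme.{u}) (g : ∀ k, Z k ⟶ X) (hcl : ∀ k, UniversallyClosed (g k ≫ f))
    (hs : ∀ x, ∃ k z, g k z = x) : UniversallyClosed f := by
  refine ⟨fun X' S' i₁ i₂ f' h C hC => ?_⟩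
  have hk : ∀ k, IsPullback (pullback.fst (g k) i₁) (pullback.snd (g k) i₁ ≫ f') (g k ≫ f) i₂ :=
    fun k => (IsPullback.of_hasPullback (g k) i₁).paste_vert h.flip
  have heq : f' '' C = ⋃ k, (pullback.snd (g k) i₁ ≫ f') '' (pullback.snd (g k) i₁ ⁻¹' C) := by
    ext s
    constructor
    · rintro ⟨x, hx, rfl⟩
      obtain ⟨k, z, hz⟩ := hs (i₁ x)
      obtain ⟨w, -, hw⟩ := Scheme.Pullback.exists_preimage_pullback (f := g k) (g := i₁) z x hz
      exact Set.mem_iUnion.mpr ⟨k, w, (hw ▸ hx : pullback.snd (g k) i₁ w ∈ C),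
        (Scheme.Hom.comp_apply _ _ w).trans (by rw [hw])⟩
    · intro hs
      obtain ⟨k, w, hw, rfl⟩ := Set.mem_iUnion.mp hs
      exact ⟨_, hw, (Scheme.Hom.comp_apply _ _ w).symm⟩
  show IsClosed (f' '' C)
  rw [heq]
  exact isClosed_iUnion_of_finite fun k =>
    (hcl k).universally_isClosedMap _ _ _ (hk k).flip _ (hC.preimage (pullback.snd (g k) i₁).continuous)

variable [HenselianRing A I]

/-- Lifting inside a scheme immersed in a proper scheme of finite presentation. -/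
theorem exists_clopen_part {Y P : Scheme.{u}} (fY : Y ⟶ Spec (CommRingCat.of A)) [IsProper fY]
    [LocallyOfFinitePresentation fY] (j : P ⟶ Y) [IsImmersion j] (C₁ C₂ : Set P) (h₁' : IsClosed (j '' C₁))
    (h₂ : IsClosed C₂) (hdisj : Disjoint C₁ C₂) (hF : ∀ p : P, I ≤ (fY (j p)).asIdeal ↔ p ∈ C₁ ∪ C₂) :
    ∃ W : Set P, IsClopen W ∧ C₁ ⊆ W ∧ Disjoint C₂ W ∧ IsClosed (j '' W) := by
  have hjac : I ≤ Ideal.jacobson ⊥ := HenselianRing.jac
  have hinj := j.isEmbedding.injective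
  let Pb := (Scheme.IdealSheafData.vanishingIdeal (⟨closure (Set.range j), isClosed_closure⟩ : Closeds Y)).subscheme
  let ιb : Pb ⟶ Y := (Scheme.IdealSheafData.vanishingIdeal
    (⟨closure (Set.range j), isClosed_closure⟩ : Closeds Y)).subschemeι
  have hιb : Set.range ιb = closure (Set.range j) := by
    rw [Scheme.IdealSheafData.range_subschemeι, Scheme.IdealSheafData.coe_support_vanishingIdeal]
    rfl
  have hco : IsOpen (coborder (Set.range j)) := j.coborderRange.2
  let part : Set Pb := {q | I ≤ (fY (ιb q)).asIdeal}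
  have hpart : IsClosed part :=
    (PrimeSpectrum.isClosed_zeroLocus (I : Set A)).preimage (ιb ≫ fY).continuous
  let D₁ : Set Pb := ιb ⁻¹' (j '' C₁)
  let D₂ : Set Pb := part ∩ ιb ⁻¹' ((coborder (Set.range j))ᶜ ∪ closure (j '' C₂))
  have hcl₂ : ∀ p : P, j p ∈ closure (j '' C₂) → p ∈ C₂ := fun p hp => by
    have : p ∈ closure C₂ := j.isEmbedding.isInducing.closure_eq_preimage_closure_image C₂ ▸ hp
    rwa [h₂.closure_eq] at this
  obtain ⟨V, hV, hV₁, hV₂⟩ := exists_clopen_extension_closedEmbedding I fY ιb D₁ D₂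
    (h₁'.preimage ιb.continuous)
    (hpart.inter ((hco.isClosed_compl.union isClosed_closure).preimage ιb.continuous))
    (Set.disjoint_left.mpr fun q ⟨p, hp, hpq⟩ ⟨_, hq⟩ => by
      rw [Set.mem_preimage, ← hpq] at hq
      rcases hq with hq | hq
      · exact hq (subset_coborder ⟨p, rfl⟩)
      · exact hdisj.notMem_of_mem_left hp (hcl₂ p hq))
    (fun q => ⟨fun hq => by
      by_cases h : ιb q ∈ coborder (Set.range j)
      · obtain ⟨p, hp⟩ : ιb q ∈ Set.range j :=
          (closure_inter_coborder (s := Set.range j)).le ⟨hιb.le ⟨q, rfl⟩, h⟩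
        rcases (hF p).mp (by rw [hp]; exact hq) with hp1 | hp2
        · exact Or.inl ⟨p, hp1, hp⟩
        · exact Or.inr ⟨hq, Or.inr (subset_closure ⟨p, hp2, hp⟩)⟩
      · exact Or.inr ⟨hq, Or.inl h⟩,
      fun hq => hq.elim (fun ⟨p, hp, hpq⟩ => hpq ▸ (hF p).mpr (Or.inl hp)) And.left⟩)
  have hVsub : ∀ q ∈ V, ιb q ∈ Set.range j := fun q hq => by
    refine (closure_inter_coborder (s := Set.range j)).le ⟨hιb.le ⟨q, rfl⟩, by_contra fun h => ?_⟩
    obtain ⟨r, ⟨hrV, hr⟩, hrI⟩ := exists_mem_over_ideal (ιb ≫ fY) hjac (V ∩ ιb ⁻¹' (coborder (Set.range j))ᶜ)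
      (hV.1.inter (hco.isClosed_compl.preimage ιb.continuous)) ⟨q, hq, h⟩
    exact hV₂.notMem_of_mem_left ⟨hrI, Or.inl hr⟩ hrV
  have hP : ∀ p : P, ∃ q, ιb q = j p := fun p => hιb.ge (subset_closure ⟨p, rfl⟩)
  have hcompl : (j ⁻¹' (ιb '' V))ᶜ = j ⁻¹' (ιb '' Vᶜ) := by
    ext p
    obtain ⟨q, hq⟩ := hP p
    simp only [Set.mem_compl_iff, Set.mem_preimage, ← hq, ιb.isClosedEmbedding.injective.mem_set_image]
  have hclosed : ∀ U : Set Pb, IsClosed U → IsClosed (j ⁻¹' (ιb '' U)) := fun U hU =>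
    (ιb.isClosedEmbedding.isClosedMap U hU).preimage j.continuous
  refine ⟨j ⁻¹' (ιb '' V), ⟨hclosed V hV.1, ?_⟩, fun p hp => ?_,
    Set.disjoint_left.mpr fun p hp hpV => ?_, ?_⟩
  · rw [← isClosed_compl_iff, hcompl]
    exact hclosed _ hV.compl.1
  · obtain ⟨q, hq⟩ := hP p
    exact ⟨q, hV₁ ⟨p, hp, hq.symm⟩, hq⟩
  · obtain ⟨q, hqV, hq⟩ := hpV
    refine hV₂.notMem_of_mem_left ⟨?_, Or.inr (subset_closure ⟨p, hp, hq.symm⟩)⟩ hqV
    show I ≤ (fY (ιb q)).asIdeal
    rw [hq]; exact (hF p).mpr (Or.inr hp)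
  · rw [Set.image_preimage_eq_of_subset]
    · exact ιb.isClosedEmbedding.isClosedMap _ hV.1
    · rintro _ ⟨q, hq, rfl⟩
      exact hVsub q hq

/-- An open and closed part, proper over the quotient, lifts to an open and closed part, proper over the
base. -/
theorem exists_clopen_lift_proper {X : Scheme.{u}} (f : X ⟶ Spec (CommRingCat.of A)) [IsSeparated f]
    [LocallyOfFiniteType f] [QuasiCompact f] {Y₁ : Scheme.{u}} (q : Y₁ ⟶ X) [IsProper (q ≫ f)] (C₂ : Set X)
    (h₂ : IsClosed C₂) (hdisj : Disjoint (Set.range q) C₂)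
    (hF : ∀ x : X, I ≤ (f x).asIdeal ↔ x ∈ Set.range q ∪ C₂) :
    ∃ W : X.Opens, IsClosed (W : Set X) ∧ IsProper (W.ι ≫ f) ∧
      (∀ x, x ∈ Set.range q → x ∈ W) ∧ ∀ x ∈ C₂, x ∉ W := by
  classical
  have hjac : I ≤ Ideal.jacobson ⊥ := HenselianRing.jac
  haveI : CompactSpace X := QuasiCompact.compactSpace_of_compactSpace f
  haveI : QuasiSeparatedSpace X := quasiSeparatedSpace_of_quasiSeparated f
  obtain ⟨ι, _, N, P, π, j, hj, hjf, hπ, hsurj⟩ := Chow.exists_chow_cover f
  let Y := fun k => CohB1.ProjSpaceOver (N k) (Spec (CommRingCat.of A))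
  let fY := fun k => CohB1.ProjSpaceOver.toBase (N k) (Spec (CommRingCat.of A))
  haveI : ∀ k, IsProper (fY k) := fun k => (isProper_lfp_projSpace (N k)).1
  haveI : ∀ k, LocallyOfFinitePresentation (fY k) := fun k => (isProper_lfp_projSpace (N k)).2
  haveI : ∀ k, IsImmersion (j k) := hj
  have hover : ∀ k p, fY k (j k p) = f (π k p) := fun k p =>
    (Scheme.Hom.comp_apply (j k) (fY k) p).symm.trans
      ((congrArg (fun g : P k ⟶ _ => g p) (hjf k)).trans (Scheme.Hom.comp_apply (π k) f p))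
  have hC₁ : ∀ k, IsClosed (j k '' (π k ⁻¹' Set.range q)) := fun k => by
    haveI := hπ k
    let a := pullback.fst (π k) q
    haveI : IsProper ((a ≫ j k) ≫ fY k) := by
      rw [Category.assoc, hjf k, ← Category.assoc, pullback.condition, Category.assoc]
      infer_instance
    haveI : IsProper (a ≫ j k) := IsProper.of_comp (a ≫ j k) (fY k)
    have := (a ≫ j k).isClosedMap.isClosed_range
    rwa [Scheme.Hom.comp_base, TopCat.coe_comp, Set.range_comp, Scheme.Pullback.range_fst] at this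
  choose W hW hW₁ hW₂ hWcl using fun k => exists_clopen_part I (fY k) (j k) (π k ⁻¹' Set.range q)
    (π k ⁻¹' C₂) (hC₁ k) (h₂.preimage (π k).continuous) (hdisj.preimage _)
    (fun p => by rw [hover]; exact hF _)
  have hclπ : ∀ k (U : Set (P k)), IsClosed U → IsClosed (π k '' U) := fun k U hU =>
    haveI := hπ k
    (π k).isClosedMap U hU
  have hdisjW : ∀ k l, Disjoint (π k '' W k) (π l '' (W l)ᶜ) := by
    intro k l
    rw [Set.disjoint_left]
    rintro x ⟨p, hp, rfl⟩ hx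
    haveI := hj k
    let D' : Set (P k) := W k ∩ π k ⁻¹' (π l '' (W l)ᶜ)
    have hD' : IsClosed (j k '' D') := by
      obtain ⟨F, hF', hFD⟩ := (j k).isEmbedding.isInducing.isClosed_iff.mp
        (((hclπ l _ (hW l).compl.1).preimage (π k).continuous))
      rw [show j k '' D' = j k '' W k ∩ F by rw [← Set.image_inter_preimage, hFD]]
      exact (hWcl k).inter hF'
    obtain ⟨_, ⟨p₀, ⟨hp₀, p', hp', hp'x⟩, rfl⟩, hI⟩ :=
      exists_mem_over_ideal (fY k) hjac _ hD' ⟨_, p, ⟨hp, hx⟩, rfl⟩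
    rw [hover] at hI
    rcases (hF _).mp hI with h1 | h2
    · exact hp' (hW₁ l (show π l p' ∈ Set.range q from hp'x ▸ h1))
    · exact (hW₂ k).notMem_of_mem_left h2 hp₀
  let S : Set X := ⋃ k, π k '' W k
  have hS : IsClosed S := isClosed_iUnion_of_finite fun k => hclπ k _ (hW k).1
  have hScompl : Sᶜ = ⋃ k, π k '' (W k)ᶜ := by
    ext x
    refine ⟨fun hx => ?_, fun hx hxS => ?_⟩
    · obtain ⟨k, p, rfl⟩ := hsurj x
      exact Set.mem_iUnion.mpr ⟨k, p, fun hp => hx (Set.mem_iUnion.mpr ⟨k, p, hp, rfl⟩), rfl⟩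
    · obtain ⟨k, hk⟩ := Set.mem_iUnion.mp hxS
      obtain ⟨l, hl⟩ := Set.mem_iUnion.mp hx
      exact (hdisjW k l).notMem_of_mem_left hk hl
  have hSo : IsOpen S := isClosed_compl_iff.mp (hScompl ▸ isClosed_iUnion_of_finite fun k => hclπ k _ (hW k).compl.1)
  let WX : X.Opens := ⟨S, hSo⟩
  haveI : IsClosedImmersion WX.ι := IsClosedImmersion.of_isPreimmersion _ (by rw [Scheme.Opens.range_ι]; exact hS)
  haveI : UniversallyClosed (WX.ι ≫ f) := by
    let Wk : ∀ k, (P k).Opens := fun k => ⟨W k, (hW k).2⟩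
    have hle : ∀ k, Set.range ((Wk k).ι ≫ π k) ⊆ Set.range WX.ι := fun k => by
      rw [Scheme.Opens.range_ι]
      rintro _ ⟨p, rfl⟩
      exact Set.mem_iUnion.mpr ⟨k, p.1, p.2, rfl⟩
    refine universallyClosed_of_jointly_surjective _ (fun k => (Wk k).toScheme)
      (fun k => IsOpenImmersion.lift WX.ι ((Wk k).ι ≫ π k) (hle k)) (fun k => ?_) ?_
    · haveI := hj k
      rw [← Category.assoc, IsOpenImmersion.lift_fac, Category.assoc, ← hjf k, ← Category.assoc]
      haveI : IsClosedImmersion ((Wk k).ι ≫ j k) := IsClosedImmersion.of_isPreimmersion _ (by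
        rw [Scheme.Hom.comp_base, TopCat.coe_comp, Set.range_comp, Scheme.Opens.range_ι]
        exact hWcl k)
      infer_instance
    · rintro ⟨x, hx⟩
      obtain ⟨k, p, hp, rfl⟩ := Set.mem_iUnion.mp hx
      refine ⟨k, ⟨p, hp⟩, WX.ι.isOpenEmbedding.injective ?_⟩
      rw [← Scheme.Hom.comp_apply, IsOpenImmersion.lift_fac]
      rfl
  refine ⟨WX, hS, IsProper.mk, fun x hx => ?_, fun x hx hxW => ?_⟩
  · obtain ⟨k, p, rfl⟩ := hsurj x
    exact Set.mem_iUnion.mpr ⟨k, p, hW₁ k hx, rfl⟩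
  · obtain ⟨k, p, hp, rfl⟩ := Set.mem_iUnion.mp hxW
    exact (hW₂ k).notMem_of_mem_left hx hp

/-- Zariski connectedness over a henselian pair for proper morphisms. -/
theorem exists_clopen_extension_proper {X : Scheme.{u}} (f : X ⟶ Spec (CommRingCat.of A)) [IsProper f]
    (C₁ C₂ : Set X) (h₁ : IsClosed C₁) (h₂ : IsClosed C₂) (hdisj : Disjoint C₁ C₂)
    (hF : ∀ x : X, I ≤ (f x).asIdeal ↔ x ∈ C₁ ∪ C₂) :
    ∃ W : Set X, IsClopen W ∧ C₁ ⊆ W ∧ Disjoint C₂ W := by
  let q := (Scheme.IdealSheafData.vanishingIdeal (⟨C₁, h₁⟩ : Closeds X)).subschemeι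
  have hq : Set.range q = C₁ := by
    rw [Scheme.IdealSheafData.range_subschemeι, Scheme.IdealSheafData.coe_support_vanishingIdeal]
    rfl
  obtain ⟨W, hWc, -, hW₁, hW₂⟩ := exists_clopen_lift_proper I f q C₂ h₂ (by rw [hq]; exact hdisj)
    (by rw [hq]; exact hF)
  exact ⟨W, ⟨hWc, W.2⟩, fun x hx => hW₁ x (hq.ge hx), Set.disjoint_left.mpr hW₂⟩

end Groth.Agent.ZarConn
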