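import Groth.Agent.GeomConn.Basic
import Groth.Agent.GeomConn.Comp
import Groth.Agent.CompSurj.Geom
import Groth.Agent.GeomFib.FieldExt

/-!
# The geometric number of connected components is reached over a finite extension
-/

universe u

open CategoryTheory Limits AlgebraicGeometry IsLocalRing TopologicalSpace

set_option backward.isDefEq.respectTransparency false
set_option linter.style.haveILetI false

noncomputable section

namespace Groth.Agent.ZarConn

open CompSurj

lemma finite_components (α : Type u) [TopologicalSpace α] [NoetherianSpace α] :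
    Finite (_root_.ConnectedComponents α) := by
  haveI := (NoetherianSpace.finite_irreducibleComponents (α := α)).to_subtype
  refine Finite.of_surjective (fun Z : irreducibleComponents α ↦ _root_.ConnectedComponents.mk Z.2.1.nonempty.choose)
    fun q ↦ ?_
  obtain ⟨x, rfl⟩ := _root_.ConnectedComponents.surjective_coe q
  refine ⟨⟨irreducibleComponent x, irreducibleComponent_mem_irreducibleComponents x⟩, ?_⟩
  refine _root_.ConnectedComponents.coe_eq_coe'.mpr ?_
  exact isIrreducible_irreducibleComponent.isConnected.subset_connectedComponent mem_irreducibleComponent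
    (irreducibleComponent_mem_irreducibleComponents x).1.nonempty.choose_spec

variable {K : Type u} [Field K] {P : Scheme.{u}} (f : P ⟶ Spec (CommRingCat.of K))

/-- Finitely many components over the algebraic closure are separated over a finite extension. -/
theorem exists_finite_field_count [LocallyOfFiniteType f] [CompactSpace P] :
    ∃ F : IntermediateField K (AlgebraicClosure K), FiniteDimensional K F ∧
      ENat.card (_root_.ConnectedComponents ↥(pullback f (w (k := K) (AlgebraicClosure K)))) ≤
        ENat.card (_root_.ConnectedComponents ↥(pullback f (w (k := K) F))) := by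
  classical
  let L := AlgebraicClosure K
  let R := pullback f (w (k := K) L)
  let wL := w (k := K) L
  haveI : IsIntegralHom wL := IsIntegralHom.SpecMap_iff.2 Algebra.IsIntegral.isIntegral
  haveI : QuasiCompact f := (quasiCompact_iff_compactSpace f).2 ‹_›
  haveI : QuasiCompact (pullback.snd f wL) := MorphismProperty.pullback_snd _ _ inferInstance
  haveI : CompactSpace R := QuasiCompact.compactSpace_of_compactSpace (pullback.snd f wL)
  haveI : IsLocallyNoetherian R := LocallyOfFiniteType.isLocallyNoetherian (pullback.snd f wL)
  haveI : IsNoetherian R := {}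
  haveI := finite_components R
  have hpt : ∀ q : _root_.ConnectedComponents R,
      ∃ r : R, IsClosed ({r} : Set R) ∧ _root_.ConnectedComponents.mk r = q := by
    intro q
    obtain ⟨x, rfl⟩ := _root_.ConnectedComponents.surjective_coe q
    obtain ⟨r, hr, hrc⟩ := (isClosed_connectedComponent (x := x)).exists_closed_singleton ⟨x, mem_connectedComponent⟩
    exact ⟨r, hrc, _root_.ConnectedComponents.coe_eq_coe'.mpr hr⟩
  choose r hrc hrq using hpt
  let τ : ∀ q, Spec (CommRingCat.of L) ⟶ R := fun q ↦ pointOfClosedPoint (pullback.snd f wL) (r q) (hrc q)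
  let x : _root_.ConnectedComponents R → P := fun q ↦ pullback.fst f wL (r q)
  have hx : ∀ q, IsClosed ({x q} : Set P) := fun q ↦ by
    rw [← Set.image_singleton (f := pullback.fst f wL) (a := r q)]
    exact (pullback.fst f wL).isClosedMap _ (hrc q)
  have hψ : ∀ q, ∃ ψ : P.residueField (x q) ⟶ CommRingCat.of L,
      Spec.map ψ ≫ P.fromSpecResidueField (x q) = τ q ≫ pullback.fst f wL := fun q ↦ by
    refine GeomFib.exists_fac_residueField _ _ ?_
    rw [Scheme.Hom.comp_apply, pointOfClosedPoint_apply]
  choose ψ hψ using hψ
  let j : ∀ q, CommRingCat.of K ⟶ P.residueField (x q) := fun q ↦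
    Spec.preimage (P.fromSpecResidueField (x q) ≫ f)
  have hj : ∀ q, Spec.map (j q) = P.fromSpecResidueField (x q) ≫ f := fun q ↦ Spec.map_preimage _
  have hjψ : ∀ q, j q ≫ ψ q = CommRingCat.ofHom (algebraMap K L) := fun q ↦ by
    apply Spec.map_injective
    rw [Spec.map_comp, hj, ← Category.assoc, hψ, Category.assoc, pullback.condition, ← Category.assoc,
      pointOfClosedPoint_comp, Category.id_comp]
  -- the fields of definition
  have hFq : ∀ q, ∃ F : IntermediateField K L, FiniteDimensional K F ∧ ∀ z, (ψ q).hom z ∈ F := by
    intro q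
    letI : Algebra K (P.residueField (x q)) := (j q).hom.toAlgebra
    haveI : Module.Finite K (P.residueField (x q)) := by
      haveI : JacobsonSpace P := LocallyOfFiniteType.jacobsonSpace f
      haveI := isClosed_singleton_iff_isClosedImmersion.mp (hx q)
      haveI : IsFinite (P.fromSpecResidueField (x q) ≫ f) := by
        rw [isFinite_iff_locallyOfFiniteType_of_jacobsonSpace]; infer_instance
      have : IsFinite (Spec.map (j q)) := by rw [hj]; infer_instance
      exact (IsFinite.SpecMap_iff _).1 this
    let ψa : P.residueField (x q) →ₐ[K] L :=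
      { (ψ q).hom with commutes' := fun b ↦ congr($(hjψ q).hom b) }
    exact ⟨ψa.fieldRange, ψa.toLinearMap.finiteDimensional_range, fun z ↦ ⟨z, rfl⟩⟩
  choose Fq hFfin hFmem using hFq
  let F : IntermediateField K L := ⨆ q, Fq q
  haveI : FiniteDimensional K F := IntermediateField.finiteDimensional_iSup_of_finite
  refine ⟨F, inferInstance, ?_⟩
  let ψ' : ∀ q, P.residueField (x q) ⟶ CommRingCat.of F := fun q ↦
    CommRingCat.ofHom ((ψ q).hom.codRestrict F.toSubfield.toSubring
      fun z ↦ le_iSup Fq q (hFmem q z))
  have hψ' : ∀ q, ψ' q ≫ CommRingCat.ofHom (algebraMap F L) = ψ q := fun q ↦ rfl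
  have hjψ' : ∀ q, j q ≫ ψ' q = CommRingCat.ofHom (algebraMap K F) := fun q ↦ by
    refine CommRingCat.hom_ext (RingHom.ext fun b ↦ Subtype.ext ?_)
    exact congr($(hjψ q).hom b)
  let s : ∀ q, Spec (CommRingCat.of F) ⟶ pullback f (w (k := K) F) := fun q ↦
    pullback.lift (Spec.map (ψ' q) ≫ P.fromSpecResidueField (x q)) (𝟙 _) (by
      rw [Category.assoc, ← hj, ← Spec.map_comp, hjψ', Category.id_comp])
  let p : R ⟶ pullback f (w (k := K) F) := proj f F L
  have hτs : ∀ q, τ q ≫ p = Spec.map (CommRingCat.ofHom (algebraMap F L)) ≫ s q := fun q ↦ by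
    apply pullback.hom_ext
    · simp only [s, Category.assoc, p]
      rw [proj_fst, pullback.lift_fst, ← Category.assoc, ← Spec.map_comp, hψ', hψ]
    · simp only [s, Category.assoc, p]
      rw [proj_snd, pullback.lift_snd, Category.comp_id, ← Category.assoc, pointOfClosedPoint_comp,
        Category.id_comp]
  let e₀ : ↥(Spec (CommRingCat.of F)) := closedPoint F
  have hrs : ∀ q, p (r q) = s q e₀ := fun q ↦ by
    have h := congr($(hτs q) (closedPoint L))
    rw [Scheme.Hom.comp_apply, pointOfClosedPoint_apply, Scheme.Hom.comp_apply] at h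
    exact h.trans (congrArg (s q) (@Subsingleton.elim (PrimeSpectrum F) _ _ _))
  refine ENat.card_le_card_of_injective (f := fun q ↦ _root_.ConnectedComponents.mk (p (r q))) ?_
  intro q q' hqq
  let C := connectedComponent (s q e₀)
  -- a component through a rational point is geometrically connected
  let g := pullback.snd f (w (k := K) F)
  let h := Spec.map (CommRingCat.ofHom (algebraMap (↥F) (AlgebraicClosure F)))
  have hconn := GeomConn.isConnected_preimage_of_fibre (K := L) g (C := C) isClosed_connectedComponent
    isConnected_connectedComponent (z := s q e₀) mem_connectedComponent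
    (D := (pullback.fst g h) ⁻¹' {s q e₀})
    (GrpField.subsingleton_preimage_section g h (s q) (pullback.lift_snd _ _ _) e₀).isPreconnected
    (Set.preimage_mono (Set.singleton_subset_iff.mpr mem_connectedComponent)) subset_rfl
  let e := (isPullback_proj f F L).isoPullback
  have hp : ∀ t : R, p t = pullback.fst g (Spec.map (CommRingCat.ofHom (algebraMap F L))) (e.hom t) := fun t ↦ by
    rw [← Scheme.Hom.comp_apply, IsPullback.isoPullback_hom_fst]
  have hpre : _root_.IsPreconnected (p ⁻¹' C) := by
    have h2 := hconn.isPreconnected.image e.inv e.inv.continuous.continuousOn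
    convert h2 using 1
    ext t
    constructor
    · intro ht
      exact ⟨e.hom t, (show _ ∈ C by rw [← hp]; exact ht), by rw [← Scheme.Hom.comp_apply, e.hom_inv_id]; rfl⟩
    · rintro ⟨t', ht', rfl⟩
      show p (e.inv t') ∈ C
      rw [hp, ← Scheme.Hom.comp_apply e.inv, e.inv_hom_id]
      exact ht'
  have hmem : r q' ∈ connectedComponent (r q) := by
    refine hpre.subset_connectedComponent (show p (r q) ∈ C by rw [hrs]; exact mem_connectedComponent) ?_
    show p (r q') ∈ C
    have : p (r q') ∈ connectedComponent (p (r q)) := _root_.ConnectedComponents.coe_eq_coe'.mp hqq.symm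
    rwa [hrs q] at this
  rw [← hrq q, ← hrq q']
  exact (_root_.ConnectedComponents.coe_eq_coe'.mpr hmem).symm

end Groth.Agent.ZarConn
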