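import Groth.Agent.ZarConn.ProperFT

/-!
# Proper schemes over henselian pairs give henselian couples
-/

set_option autoImplicit false

universe u

open CategoryTheory CategoryTheory.Limits AlgebraicGeometry

set_option backward.isDefEq.respectTransparency false
set_option linter.style.haveILetI false

noncomputable section

namespace Groth.Agent.ZarConn

/-- Clopens of the part over the ideal lift uniquely, along any finite morphism. -/
theorem existsUnique_clopen_lift {B : Type u} [CommRing B] (J : Ideal B) [HenselianRing B J]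
    {X X₀ : Scheme.{u}} (h : X ⟶ Spec (CommRingCat.of B)) [IsProper h] (ι : X₀ ⟶ X) [IsClosedImmersion ι]
    (hι : Set.range ι = {x : X | J ≤ (h x).asIdeal}) {Y : Scheme.{u}} (g : Y ⟶ X) [IsFinite g]
    (V : Set ↥(pullback g ι)) (hV : IsClopen V) :
    ∃! U : Set ↥Y, IsClopen U ∧ (pullback.fst g ι).base ⁻¹' U = V := by
  let j := pullback.fst g ι
  haveI : IsClosedImmersion j := MorphismProperty.pullback_fst _ _ inferInstance
  have hj : Set.range j = {y : Y | J ≤ ((g ≫ h) y).asIdeal} := by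
    rw [Scheme.Pullback.range_fst, hι]
    rfl
  obtain ⟨W, hW, h1, h2⟩ := exists_clopen_extension_proper J (g ≫ h) (j '' V) (j '' Vᶜ)
    (j.isClosedEmbedding.isClosedMap _ hV.1) (j.isClosedEmbedding.isClosedMap _ hV.compl.1)
    ((Set.disjoint_image_iff j.isEmbedding.injective).mpr disjoint_compl_right)
    (fun y ↦ by
      rw [← Set.image_union, Set.union_compl_self, Set.image_univ, hj]
      exact Iff.rfl)
  have hWV : j ⁻¹' W = V := by
    ext p
    refine ⟨fun hp ↦ by_contra fun hpV ↦ h2.notMem_of_mem_left ⟨p, hpV, rfl⟩ hp, fun hp ↦ h1 ⟨p, hp, rfl⟩⟩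
  refine ⟨W, ⟨hW, hWV⟩, fun U ⟨hU, hUV⟩ ↦
    clopen_eq_of_over_ideal (g ≫ h) (HenselianRing.jac : J ≤ Ideal.jacobson ⊥) hU hW fun y hy ↦ ?_⟩
  obtain ⟨p, rfl⟩ := hj.ge hy
  exact ⟨fun hp ↦ (hWV.ge (hUV.le hp) : p ∈ j ⁻¹' W), fun hp ↦ (hUV.ge (hWV.le hp) : p ∈ j ⁻¹' U)⟩

/-- The part over `I` of a proper scheme is the part over the kernel of restriction of global
functions. -/
theorem range_eq_over_ker {A : Type u} [CommRing A] (I : Ideal A) {X : Scheme.{u}}
    (f : X ⟶ Spec (CommRingCat.of A)) :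
    Set.range (pullback.fst f (Spec.map (CommRingCat.ofHom (Ideal.Quotient.mk I)))) =
      {x : X | RingHom.ker (pullback.fst f (Spec.map (CommRingCat.ofHom (Ideal.Quotient.mk I)))).appTop.hom ≤
        (X.toSpecΓ x).asIdeal} := by
  let ι := pullback.fst f (Spec.map (CommRingCat.ofHom (Ideal.Quotient.mk I)))
  let φ : A →+* Γ(X, ⊤) := ((Scheme.ΓSpecIso (CommRingCat.of A)).inv ≫ f.appTop).hom
  have hf : f = X.toSpecΓ ≫ Spec.map (CommRingCat.ofHom φ) := by
    show f = X.toSpecΓ ≫ Spec.map ((Scheme.ΓSpecIso (CommRingCat.of A)).inv ≫ f.appTop)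
    rw [Spec.map_comp, ← Scheme.toSpecΓ_naturality_assoc, toSpecΓ_SpecMap_ΓSpecIso_inv, Category.comp_id]
  ext x
  constructor
  · rintro ⟨p, rfl⟩ b hb
    have e : X.toSpecΓ (ι p) = Spec.map ι.appTop ((pullback f _).toSpecΓ p) :=
      congrArg (fun k : pullback f _ ⟶ Spec Γ(X, ⊤) ↦ k p) (Scheme.toSpecΓ_naturality ι)
    rw [e]
    show ι.appTop b ∈ ((pullback f _).toSpecΓ p).asIdeal
    rw [show ι.appTop b = 0 from hb]
    exact zero_mem _
  · intro hx
    refine (range_fst_quotient I f).ge (fun a ha ↦ ?_)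
    have hker : φ a ∈ RingHom.ker ι.appTop.hom := by
      rw [RingHom.mem_ker]
      show ((Scheme.ΓSpecIso (CommRingCat.of A)).inv ≫ f.appTop ≫ ι.appTop) a = 0
      rw [← Scheme.Hom.comp_appTop, pullback.condition, Scheme.Hom.comp_appTop, ← Scheme.ΓSpecIso_inv_naturality_assoc]
      show _ = (0 : Γ(pullback f _, ⊤))
      rw [ConcreteCategory.comp_apply]
      rw [show (CommRingCat.ofHom (Ideal.Quotient.mk I)) a = 0 from Ideal.Quotient.eq_zero_iff_mem.mpr ha]
      exact map_zero _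
    show a ∈ (f x).asIdeal
    rw [hf, Scheme.Hom.comp_apply]
    exact hx hker

end Groth.Agent.ZarConn
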