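import Groth.Agent.ZarConn.PairFP

/-!
# Zariski connectedness over henselian pairs for closed subschemes of proper schemes of finite presentation

A closed subset is the intersection of the closed subsets with quasi-compact complement containing it, and
those descend to a noetherian stage.
-/

set_option autoImplicit false

universe u

open CategoryTheory CategoryTheory.Limits AlgebraicGeometry TopologicalSpace

set_option backward.isDefEq.respectTransparency false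
set_option linter.style.haveILetI false

noncomputable section

namespace Groth.Agent.ZarConn

open LimDesc

/-- A compact subset of an open lies in a quasi-compact open inside it. -/
theorem exists_compact_open_between {Y : Scheme.{u}} {K : Set Y} (hK : IsCompact K) (U : Y.Opens)
    (hKU : K ⊆ U) : ∃ W : Y.Opens, IsCompact (W : Set Y) ∧ K ⊆ W ∧ W ≤ U := by
  classical
  choose V hV hxV hVU using fun x : (U : Set Y) =>
    exists_isAffineOpen_mem_and_subset (x := x.1) (U := U) x.2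
  obtain ⟨t, ht⟩ := hK.elim_finite_subcover (fun x => (V x : Set Y)) (fun x => (V x).2)
    (fun x hx => Set.mem_iUnion.mpr ⟨⟨x, hKU hx⟩, hxV _⟩)
  refine ⟨t.sup V, ?_, fun x hx => ?_, Finset.sup_le fun x _ => hVU x⟩
  · rw [show ((t.sup V : Y.Opens) : Set Y) = ⋃ x ∈ t, (V x : Set Y) by simp [Finset.sup_eq_iSup]]
    exact t.isCompact_biUnion fun x _ => (hV x).isCompact
  · obtain ⟨z, hz, hxz⟩ := Set.mem_iUnion₂.mp (ht hx)
    exact (Finset.le_sup hz : V z ≤ t.sup V) hxz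

/-- A closed subset with quasi-compact complement is the range of a closed immersion of finite
presentation. -/
theorem exists_closedImmersion_fp {A : Type u} [CommRing A] {Y : Scheme.{u}}
    (f : Y ⟶ Spec (CommRingCat.of A)) [IsProper f] [LocallyOfFinitePresentation f] (W : Y.Opens)
    (hW : IsCompact (W : Set Y)) :
    ∃ (Z : Scheme.{u}) (κ : Z ⟶ Y), IsClosedImmersion κ ∧ LocallyOfFinitePresentation κ ∧
      Set.range κ = (W : Set Y)ᶜ := by
  obtain ⟨A₀, hA₀, Y₀, f₀, g, hp, hfp, hsq⟩ := exists_model_proper f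
  haveI := hp
  let D := LimModel.fgDiagram A
  let c := LimModel.fgCone A
  let i₀ : (LimModel.FgSub A)ᵒᵖ := Opposite.op ⟨A₀, hA₀⟩
  haveI : IsCofiltered (LimModel.FgSub A)ᵒᵖ := isCofiltered_op_of_isFiltered _
  haveI : ∀ {i j : (LimModel.FgSub A)ᵒᵖ} (f : i ⟶ j), IsAffineHom (D.map f) := fun f =>
    inferInstanceAs (IsAffineHom ((LimModel.fgDiagram A).map f))
  haveI : ∀ i : (LimModel.FgSub A)ᵒᵖ, IsAffine (D.obj i) := fun i => inferInstanceAs (IsAffine (Spec _))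
  haveI : ∀ i : (LimModel.FgSub A)ᵒᵖ, IsLocallyNoetherian (D.obj i) := fun i => by
    have := Algebra.FiniteType.isNoetherianRing ℤ i.unop.1
      (h := i.unop.1.fg_iff_finiteType.mp i.unop.2)
    exact inferInstanceAs (IsLocallyNoetherian (Spec (CommRingCat.of i.unop.1)))
  let g₀ : Y₀ ⟶ D.obj i₀ := f₀
  haveI : IsProper g₀ := hp
  let g' : Y ⟶ c.pt := f
  have hY : IsPullback g g' g₀ (c.π.app i₀) := hsq
  haveI : CompactSpace ↥Y₀ := QuasiCompact.compactSpace_of_compactSpace g₀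
  haveI : QuasiSeparatedSpace ↥Y₀ := quasiSeparatedSpace_of_quasiSeparated g₀
  haveI : ∀ j, CompactSpace ((tower D g₀).obj j) := fun j => compactSpace_stage D g₀ j
  haveI : ∀ j, QuasiSeparatedSpace ((tower D g₀).obj j) := fun j => quasiSeparatedSpace_stage D g₀ j
  obtain ⟨j, V, -, hV⟩ := exists_preimage_eq (tower D g₀) (towerCone D g₀ c hY)
    (isLimitTowerCone D g₀ c hY (LimModel.fgIsLimit A)) W hW
  let St := (tower D g₀).obj j
  haveI : IsProper (toStage D g₀ j) :=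
    MorphismProperty.of_isPullback (P := @IsProper) (isPullback_stage D g₀ j) ‹IsProper g₀›
  haveI : IsLocallyNoetherian St := LocallyOfFiniteType.isLocallyNoetherian (toStage D g₀ j)
  let Ic := Scheme.IdealSheafData.vanishingIdeal (⟨(V : Set St)ᶜ, V.2.isClosed_compl⟩ : Closeds St)
  haveI : LocallyOfFinitePresentation Ic.subschemeι := inferInstance
  let pr : Y ⟶ St := proj D g₀ c hY j
  refine ⟨pullback pr Ic.subschemeι, pullback.fst _ _, MorphismProperty.pullback_fst _ _ inferInstance,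
    MorphismProperty.pullback_fst _ _ inferInstance, ?_⟩
  rw [Scheme.Pullback.range_fst, Scheme.IdealSheafData.range_subschemeι]
  ext y
  rw [Set.mem_preimage, Scheme.IdealSheafData.coe_support_vanishingIdeal]
  rw [← hV]
  rfl

/-- Zariski connectedness over a henselian pair for a closed subscheme of a proper scheme of finite
presentation. -/
theorem exists_clopen_extension_closedEmbedding {A : Type u} [CommRing A] (I : Ideal A) [HenselianRing A I]
    {Y P : Scheme.{u}} (f : Y ⟶ Spec (CommRingCat.of A)) [IsProper f] [LocallyOfFinitePresentation f]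
    (j : P ⟶ Y) [IsClosedImmersion j] (C₁ C₂ : Set P) (h₁ : IsClosed C₁) (h₂ : IsClosed C₂)
    (hdisj : Disjoint C₁ C₂) (hF : ∀ p : P, I ≤ (f (j p)).asIdeal ↔ p ∈ C₁ ∪ C₂) :
    ∃ W : Set P, IsClopen W ∧ C₁ ⊆ W ∧ Disjoint C₂ W := by
  haveI : CompactSpace Y := QuasiCompact.compactSpace_of_compactSpace f
  haveI : QuasiSeparatedSpace Y := quasiSeparatedSpace_of_quasiSeparated f
  let Y₀ : Set Y := {y | I ≤ (f y).asIdeal}
  have hY₀ : IsClosed Y₀ := (PrimeSpectrum.isClosed_zeroLocus (I : Set A)).preimage f.continuous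
  have hcl : ∀ C : Set P, IsClosed C → IsClosed (j '' C) := j.isClosedEmbedding.isClosedMap
  obtain ⟨O₁, hO₁c, hO₁, hO₁'⟩ := exists_compact_open_between (hcl C₁ h₁).isCompact
    (⟨(j '' C₂)ᶜ, (hcl C₂ h₂).isOpen_compl⟩ : Y.Opens) (by
      rintro _ ⟨p, hp, rfl⟩ ⟨q, hq, hqp⟩
      exact hdisj.notMem_of_mem_left hp (j.isClosedEmbedding.injective hqp ▸ hq))
  obtain ⟨O₂, hO₂c, hO₂, hO₂'⟩ := exists_compact_open_between (hcl C₂ h₂).isCompact
    (⟨(j '' C₁)ᶜ, (hcl C₁ h₁).isOpen_compl⟩ : Y.Opens) (by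
      rintro _ ⟨p, hp, rfl⟩ ⟨q, hq, hqp⟩
      exact hdisj.notMem_of_mem_left (j.isClosedEmbedding.injective hqp ▸ hq) hp)
  let K : Set Y := ((O₁ : Set Y) ∩ O₂ ∩ Y₀) ∪ (((O₁ : Set Y) ∪ O₂)ᶜ ∩ Y₀)
  have hK : IsCompact K := ((hO₁c.inter_of_isOpen hO₂c O₁.2 O₂.2).inter_right hY₀).union
    (((O₁.2.union O₂.2).isClosed_compl.inter hY₀).isCompact)
  obtain ⟨W, hWc, hKW, hWT⟩ := exists_compact_open_between hK
    (⟨(Set.range j)ᶜ, j.isClosedEmbedding.isClosed_range.isOpen_compl⟩ : Y.Opens) (by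
      rintro _ hy ⟨p, rfl⟩
      rcases hy with ⟨⟨hy1, hy2⟩, hy0⟩ | ⟨hy, hy0⟩
      · rcases (hF p).mp hy0 with hp | hp
        · exact hO₂' hy2 ⟨p, hp, rfl⟩
        · exact hO₁' hy1 ⟨p, hp, rfl⟩
      · rcases (hF p).mp hy0 with hp | hp
        · exact hy (Or.inl (hO₁ ⟨p, hp, rfl⟩))
        · exact hy (Or.inr (hO₂ ⟨p, hp, rfl⟩)))
  obtain ⟨Z, κ, hκ, hκfp, hκr⟩ := exists_closedImmersion_fp f W hWc
  haveI := hκ; haveI := hκfp
  have hκW : ∀ z, κ z ∉ W := fun z => hκr.le ⟨z, rfl⟩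
  let fZ := κ ≫ f
  have hZ₀ : IsClosed (fZ ⁻¹' {s | I ≤ s.asIdeal}) :=
    (PrimeSpectrum.isClosed_zeroLocus (I : Set A)).preimage fZ.continuous
  have key : ∀ z : Z, I ≤ (fZ z).asIdeal → (κ z ∈ O₁ ↔ κ z ∉ O₂) := fun z hz => by
    constructor
    · exact fun h1 h2 => hκW z (hKW (Or.inl ⟨⟨h1, h2⟩, hz⟩))
    · exact fun h2 => by_contra fun h1 => hκW z (hKW (Or.inr ⟨fun h => h.elim h1 h2, hz⟩))
  let D₁ : Set Z := fZ ⁻¹' {s | I ≤ s.asIdeal} ∩ (κ ⁻¹' O₂)ᶜ
  let D₂ : Set Z := fZ ⁻¹' {s | I ≤ s.asIdeal} ∩ (κ ⁻¹' O₁)ᶜ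
  obtain ⟨V, hV, hV₁, hV₂⟩ := exists_clopen_extension_fp I fZ D₁ D₂
    (hZ₀.inter (O₂.2.preimage κ.continuous).isClosed_compl)
    (hZ₀.inter (O₁.2.preimage κ.continuous).isClosed_compl)
    (Set.disjoint_left.mpr fun z ⟨hz, h2⟩ ⟨_, h1⟩ => h1 ((key z hz).mpr h2))
    (fun z => ⟨fun hz => (em (κ z ∈ O₁)).elim (fun h => Or.inl ⟨hz, (key z hz).mp h⟩)
      (fun h => Or.inr ⟨hz, h⟩), fun h => h.elim And.left And.left⟩)
  -- pull back to `P`
  have hsub : ∀ p : P, ∃ z, κ z = j p := fun p =>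
    hκr.ge (fun h => hWT h ⟨p, rfl⟩ : j p ∉ W)
  have hcompl : (j ⁻¹' (κ '' V))ᶜ = j ⁻¹' (κ '' Vᶜ) := by
    ext p
    obtain ⟨z, hz⟩ := hsub p
    simp only [Set.mem_compl_iff, Set.mem_preimage, ← hz, κ.isClosedEmbedding.injective.mem_set_image]
  have hclosed : ∀ U : Set Z, IsClosed U → IsClosed (j ⁻¹' (κ '' U)) := fun U hU =>
    (κ.isClosedEmbedding.isClosedMap U hU).preimage j.continuous
  refine ⟨j ⁻¹' (κ '' V), ⟨hclosed V hV.1, ?_⟩, fun p hp => ?_, Set.disjoint_left.mpr fun p hp hpV => ?_⟩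
  · rw [← isClosed_compl_iff, hcompl]
    exact hclosed _ hV.compl.1
  · obtain ⟨z, hz⟩ := hsub p
    have hz0 : I ≤ (fZ z).asIdeal := by
      show I ≤ (f (κ z)).asIdeal
      rw [hz]; exact (hF p).mpr (Or.inl hp)
    exact ⟨z, hV₁ ⟨hz0, fun h => hO₂' (hz ▸ h : j p ∈ O₂) ⟨p, hp, rfl⟩⟩, hz⟩
  · obtain ⟨z, hzV, hz⟩ := hpV
    have hz0 : I ≤ (fZ z).asIdeal := by
      show I ≤ (f (κ z)).asIdeal
      rw [hz]; exact (hF p).mpr (Or.inr hp)
    exact hV₂.notMem_of_mem_left ⟨hz0, fun h => hO₁' (hz ▸ h : j p ∈ O₁) ⟨p, hp, rfl⟩⟩ hzV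

end Groth.Agent.ZarConn
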