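import Groth.Agent.ZarConn.Basic

/-!
# Connected components of a proper scheme over a henselian local ring meet the closed fibre in connected sets
-/

universe u

open CategoryTheory Category Limits Opposite TopologicalSpace AlgebraicGeometry
open Groth.Agent.CohFinite

set_option backward.isDefEq.respectTransparency false
set_option linter.style.haveILetI false

noncomputable section

namespace Groth.Agent.ZarConn

variable {X : Scheme.{u}} (A : Type u) [CommRing A] [X.Over (Spec (CommRingCat.of A))]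

/-- The non-vanishing locus of a function from the base. -/
lemma mem_basicOpen_rho (a : A) (x : X) :
    x ∈ X.basicOpen (rho A a) ↔ a ∉ ((X ↘ Spec (CommRingCat.of A)) x).asIdeal := by
  let t := (Scheme.ΓSpecIso (CommRingCat.of A)).inv.hom a
  have h : (X ↘ Spec (CommRingCat.of A)) ⁻¹ᵁ ((Spec (CommRingCat.of A)).basicOpen t) = X.basicOpen ((X ↘ Spec (CommRingCat.of A)).appTop t) :=
    Scheme.preimage_basicOpen_top (X ↘ Spec (CommRingCat.of A)) t
  change x ∈ X.basicOpen ((X ↘ Spec (CommRingCat.of A)).appTop t) ↔ _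
  rw [← h]
  show (X ↘ Spec (CommRingCat.of A)) x ∈ (Spec (CommRingCat.of A)).basicOpen t ↔ _
  rw [show (Spec (CommRingCat.of A)).basicOpen t = PrimeSpectrum.basicOpen a from
    AlgebraicGeometry.basicOpen_eq_of_affine (R := CommRingCat.of A) a]
  exact Iff.rfl

/-- An injective multiplication on sections. -/
lemma mono_smulAb_of_dense [AlgebraicGeometry.IsReduced X] (a : A)
    (hdense : ∀ x : X, ∃ ζ, ζ ⤳ x ∧ ζ ∈ X.basicOpen (rho A a)) :
    Mono (Coh.smulAb (Coh.structureModule X) (Coh.toGlobal (X ↘ Spec (CommRingCat.of A)) a)) := by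
  have hinj : ∀ (U : Opens X) (s : Γ(X, U)),
      X.presheaf.map (homOfLE (le_top : U ≤ ⊤)).op (rho A a) * s = 0 → s = 0 := by
    intro U s hs
    by_contra hne
    have hne' : X.basicOpen s ≠ ⊥ := fun h ↦ hne ((AlgebraicGeometry.basicOpen_eq_bot_iff s).mp h)
    obtain ⟨x, hx⟩ : (X.basicOpen s : Set X).Nonempty :=
      Set.nonempty_iff_ne_empty.mpr fun h ↦ hne' (Opens.ext h)
    obtain ⟨ζ, hζx, hζ⟩ := hdense x
    have hζs : ζ ∈ X.basicOpen s := hζx.mem_open (X.basicOpen s).2 hx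
    have hmem : ζ ∈ X.basicOpen (X.presheaf.map (homOfLE (le_top : U ≤ ⊤)).op (rho A a) * s) := by
      rw [Scheme.basicOpen_mul, Scheme.basicOpen_res]
      exact ⟨⟨X.basicOpen_le s hζs, hζ⟩, hζs⟩
    rw [hs, Scheme.basicOpen_zero] at hmem
    exact hmem.elim
  have : Mono (Coh.smulAb (Coh.structureModule X) (Coh.toGlobal (X ↘ Spec (CommRingCat.of A)) a)).hom := by
    have : ∀ V, Mono ((Coh.smulAb (Coh.structureModule X) (Coh.toGlobal (X ↘ Spec (CommRingCat.of A)) a)).hom.app V) := fun V ↦ by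
      rw [AddCommGrpCat.mono_iff_injective]
      refine (injective_iff_map_eq_zero _).mpr fun s hs ↦ hinj V.unop s ?_
      exact hs
    exact NatTrans.mono_of_mono_app _
  exact Functor.mono_of_mono_map (sheafToPresheaf _ _) this

/-- The structure map on global functions. -/
def rhoHom {X : Scheme.{u}} (A : Type u) [CommRing A] [X.Over (Spec (CommRingCat.of A))] : A →+* Γ(X, ⊤) := Coh.toGlobal (X ↘ Spec (CommRingCat.of A))

variable [IsNoetherianRing A] [IsProper (X ↘ Spec (CommRingCat.of A))]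

/-- The global functions are finite over the base. -/
lemma finite_global : (rhoHom A : A →+* Γ(X, ⊤)).Finite := by
  let φ : A →+* Γ(X, ⊤) := rhoHom A
  letI := φ.toAlgebra
  obtain ⟨e, he⟩ := exists_zero_equiv A (Coh.structureModule X)
  haveI := finite_proper A X (Coh.structureModule X) (Devissage.isCoh_unit X) 0
  let l : Coh.HH X (Coh.structureModule X) 0 →ₗ[A] Γ(X, ⊤) :=
    { toFun := fun x ↦ e x
      map_add' := fun x y ↦ map_add e x y
      map_smul' := fun b x ↦ he b x }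
  show Module.Finite A Γ(X, ⊤)
  exact Module.Finite.of_surjective l fun y ↦ e.surjective y

/-- A partition of the closed fibre into closed pieces is induced by clopen subsets of the scheme. -/
theorem exists_clopen_separating [HenselianLocalRing A] (a : A)
    [Mono (Coh.smulAb (Coh.structureModule X) (Coh.toGlobal (X ↘ Spec (CommRingCat.of A)) a))]
    (ha : a ∈ IsLocalRing.maximalIdeal A)
    (hV : ∀ x : X, (X ↘ Spec (CommRingCat.of A)) x ≠ IsLocalRing.closedPoint A → x ∈ X.basicOpen (rho A a))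
    (C₁ C₂ : Set X) (h₁ : IsClosed C₁) (h₂ : IsClosed C₂) (hdisj : Disjoint C₁ C₂)
    (hF : ∀ x : X, (X ↘ Spec (CommRingCat.of A)) x = IsLocalRing.closedPoint A ↔ x ∈ C₁ ∪ C₂)
    {x₁ x₂ : X} (hx₁ : x₁ ∈ C₁) (hx₂ : x₂ ∈ C₂) :
    ∃ V : Set X, IsClopen V ∧ x₁ ∈ V ∧ x₂ ∉ V := by
  let U₁ : X.Opens := ⟨C₂ᶜ, h₂.isOpen_compl⟩
  let U₂ : X.Opens := ⟨C₁ᶜ, h₁.isOpen_compl⟩
  have hcov : U₁ ⊔ U₂ = ⊤ := by
    refine Opens.ext (Set.eq_univ_of_forall fun x ↦ ?_)
    by_cases h : x ∈ C₂
    · exact Or.inr (hdisj.notMem_of_mem_right h)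
    · exact Or.inl h
  have hW : U₁ ⊓ U₂ ≤ X.basicOpen (rho A a) := fun x hx ↦
    hV x fun h ↦ ((hF x).mp h).elim hx.2 hx.1
  obtain ⟨g, ⟨w₁, hw₁⟩, ⟨w₂, hw₂⟩⟩ := exists_global_separating A a U₁ U₂ hcov hW
  -- evaluation at points of the closed fibre
  let ev : ∀ x : X, Γ(X, ⊤) →+* X.residueField x := fun x ↦ (X.evaluation ⊤ x trivial).hom
  have hev : ∀ (x : X) (s : Γ(X, ⊤)), ev x s ≠ 0 ↔ x ∈ X.basicOpen s := fun x s ↦
    X.evaluation_ne_zero_iff_mem_basicOpen (U := ⊤) x trivial s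
  have hm : ∀ x : X, (X ↘ Spec (CommRingCat.of A)) x = IsLocalRing.closedPoint A → ∀ b ∈ IsLocalRing.maximalIdeal A, ev x (rho A b) = 0 := by
    intro x hx b hb
    by_contra hne
    have := (mem_basicOpen_rho A b x).mp ((hev x _).mp hne)
    rw [hx] at this
    exact this hb
  have hf₁ : (X ↘ Spec (CommRingCat.of A)) x₁ = IsLocalRing.closedPoint A := (hF x₁).mpr (Or.inl hx₁)
  have hf₂ : (X ↘ Spec (CommRingCat.of A)) x₂ = IsLocalRing.closedPoint A := (hF x₂).mpr (Or.inr hx₂)
  have hU₁ : x₁ ∈ U₁ := hdisj.notMem_of_mem_left hx₁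
  have hU₂ : x₂ ∈ U₂ := hdisj.notMem_of_mem_right hx₂
  have hres : ∀ (U : X.Opens) (x : X) (hx : x ∈ U) (s : Γ(X, ⊤)),
      (X.evaluation U x hx).hom (X.presheaf.map (homOfLE (le_top : U ≤ ⊤)).op s) = ev x s := by
    intro U x hx s
    show X.residue x (X.presheaf.germ U x hx (X.presheaf.map (homOfLE (le_top : U ≤ ⊤)).op s)) = _
    rw [TopCat.Presheaf.germ_res_apply]
    rfl
  have hg₁ : ev x₁ g = 1 := by
    have := congrArg (X.evaluation U₁ x₁ hU₁).hom hw₁
    rw [map_sub, map_mul, hres, hres, map_one, hm x₁ hf₁ a ha, zero_mul, sub_eq_zero] at this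
    exact this
  have hg₂ : ev x₂ g = 0 := by
    have := congrArg (X.evaluation U₂ x₂ hU₂).hom hw₂
    rwa [map_mul, hres, hres, hm x₂ hf₂ a ha, zero_mul] at this
  -- the global functions form a product of local rings
  let φ : A →+* Γ(X, ⊤) := rhoHom A
  letI := φ.toAlgebra
  haveI : Module.Finite A Γ(X, ⊤) := finite_global A
  obtain ⟨ι, _, e, he, hloc⟩ := Hensel.exists_pi_local A Γ(X, ⊤)
  let p : X → Ideal Γ(X, ⊤) := fun x ↦ RingHom.ker (ev x)
  have hmax : ∀ x : X, (X ↘ Spec (CommRingCat.of A)) x = IsLocalRing.closedPoint A → (p x).IsMaximal := by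
    intro x hx
    haveI : (p x).IsPrime := RingHom.ker_isPrime (ev x)
    refine Ideal.isMaximal_of_isIntegral_of_isMaximal_comap (R := A) (p x) ?_
    have hle : IsLocalRing.maximalIdeal A ≤ (p x).comap (algebraMap A Γ(X, ⊤)) := fun b hb ↦ hm x hx b hb
    rw [← (IsLocalRing.maximalIdeal.isMaximal A).eq_of_le (Ideal.IsPrime.ne_top inferInstance) hle]
    exact IsLocalRing.maximalIdeal.isMaximal A
  have hsum : ∃ i, ev x₁ (e i) ≠ 0 := by
    by_contra h
    push Not at h
    have := congrArg (ev x₁) he.complete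
    rw [map_sum, map_one, Finset.sum_eq_zero (fun i _ ↦ h i)] at this
    exact zero_ne_one this
  obtain ⟨i, hi⟩ := hsum
  have hone : ∀ x : X, ev x (e i) ≠ 0 → ev x (1 - e i) = 0 := by
    intro x hx
    have := congrArg (ev x) (he.idem i).eq
    rw [map_mul, mul_eq_left₀ hx] at this
    rw [map_sub, map_one, this, sub_self]
  have hi₂ : ev x₂ (e i) = 0 := by
    by_contra h
    haveI := hloc i
    let J : Ideal Γ(X, ⊤) := Ideal.span {1 - e i}
    have hJ : ∀ x : X, (X ↘ Spec (CommRingCat.of A)) x = IsLocalRing.closedPoint A → ev x (e i) ≠ 0 →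
        p x = (IsLocalRing.maximalIdeal (Γ(X, ⊤) ⧸ J)).comap (Ideal.Quotient.mk J) := by
      intro x hx hne
      refine (hmax x hx).eq_of_le (Ideal.comap_ne_top _ (IsLocalRing.maximalIdeal.isMaximal _).ne_top) fun s hs ↦ ?_
      refine (IsLocalRing.mem_maximalIdeal _).mpr fun hu ↦ ?_
      obtain ⟨t, ht⟩ := hu.exists_right_inv
      obtain ⟨t, rfl⟩ := Ideal.Quotient.mk_surjective t
      rw [← map_mul, ← map_one (Ideal.Quotient.mk J), Ideal.Quotient.eq, Ideal.mem_span_singleton'] at ht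
      obtain ⟨r, hr⟩ := ht
      have h0 := congrArg (ev x) hr
      rw [map_mul, hone x hne, mul_zero, map_sub, map_mul, map_one, (show ev x s = 0 from hs), zero_mul,
        zero_sub] at h0
      exact one_ne_zero (neg_eq_zero.mp h0.symm)
    have : g ∈ p x₁ := by
      rw [hJ x₁ hf₁ hi, ← hJ x₂ hf₂ h]
      exact hg₂
    exact one_ne_zero (hg₁.symm.trans this)
  refine ⟨X.basicOpen (e i), ⟨?_, (X.basicOpen (e i)).2⟩, (hev x₁ _).mp hi, fun h ↦ (hev x₂ _).mpr h hi₂⟩
  have : ((X.basicOpen (e i) : Set X))ᶜ = X.basicOpen (1 - e i) := by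
    ext x
    simp only [Set.mem_compl_iff, SetLike.mem_coe, ← hev]
    constructor
    · intro h
      rw [not_not] at h
      rw [map_sub, map_one, h, sub_zero]
      exact one_ne_zero
    · exact fun h h' ↦ h (hone x h')
  exact isOpen_compl_iff.mp (this ▸ (X.basicOpen (1 - e i)).2)

end Groth.Agent.ZarConn
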