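import Groth.Agent.ZarConn.General
import Groth.Agent.Hensel.Idempotent

/-!
# Zariski connectedness over noetherian henselian pairs

Every open and closed subset of the part over `V(I)` of a proper scheme over a noetherian henselian
pair `(A, I)` is the trace of exactly one open and closed subset of the scheme.
-/

universe u

open CategoryTheory Category Limits Opposite TopologicalSpace AlgebraicGeometry

set_option backward.isDefEq.respectTransparency false
set_option linter.style.haveILetI false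

noncomputable section

namespace Groth.Agent.ZarConn

/-- A partition of the zero locus of a non-zero-divisor of the ideal is followed over the closed part by
a clopen subset. -/
theorem exists_clopen_of_zeroLocus_pair {X : Scheme.{u}} (A : Type u) [CommRing A]
    [X.Over (Spec (CommRingCat.of A))] [IsNoetherianRing A] [IsProper (X ↘ Spec (CommRingCat.of A))]
    (I : Ideal A) [HenselianRing A I] (a : A)
    [Mono (Coh.smulAb (Coh.structureModule X) (Coh.toGlobal (X ↘ Spec (CommRingCat.of A)) a))]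
    (ha : a ∈ I) (D₁ D₂ : Set X) (h₁ : IsClosed D₁) (h₂ : IsClosed D₂) (hdisj : Disjoint D₁ D₂)
    (hcov : ∀ x : X, x ∉ X.basicOpen (rho A a) → x ∈ D₁ ∪ D₂) :
    ∃ V : Set X, IsClopen V ∧ ∀ x : X, I ≤ ((X ↘ Spec (CommRingCat.of A)) x).asIdeal →
      (x ∈ D₁ → x ∈ V) ∧ (x ∈ D₂ → x ∉ V) := by
  let f := X ↘ Spec (CommRingCat.of A)
  let U₁ : X.Opens := ⟨D₂ᶜ, h₂.isOpen_compl⟩
  let U₂ : X.Opens := ⟨D₁ᶜ, h₁.isOpen_compl⟩
  have hcov' : U₁ ⊔ U₂ = ⊤ := by
    refine Opens.ext (Set.eq_univ_of_forall fun x ↦ ?_)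
    by_cases h : x ∈ D₂
    · exact Or.inr (hdisj.notMem_of_mem_right h)
    · exact Or.inl h
  have hW : U₁ ⊓ U₂ ≤ X.basicOpen (rho A a) := fun x hx ↦ by
    by_contra h
    exact (hcov x h).elim hx.2 hx.1
  obtain ⟨g, ⟨w₁, hw₁⟩, ⟨w₂, hw₂⟩⟩ := exists_global_separating A a U₁ U₂ hcov' hW
  let φ : A →+* Γ(X, ⊤) := rhoHom A
  letI := φ.toAlgebra
  haveI : Module.Finite A Γ(X, ⊤) := finite_global A
  -- `g` is idempotent modulo `a`
  obtain ⟨w, hw⟩ : ∃ w : Γ(X, ⊤), g * g - g = rho A a * w := by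
    have hSE := mulSeq_shortExact (X := X) (rho A a)
    let q := (mulSeq (X := X) (rho A a)).g
    have hq : ∀ (U : X.Opens) (v : Γ(X, U)),
        q.hom.app (op U) (show Γ(X, U) from X.presheaf.map (homOfLE (le_top : U ≤ ⊤)).op (rho A a) * v) = 0 :=
      fun U v ↦ congrArg (fun η => η.hom.app (op U) (show Γ(X, U) from v)) (mulSeq (X := X) (rho A a)).zero
    have hres : ∀ U : X.Opens, (mulSeq (X := X) (rho A a)).X₃.obj.map (homOfLE (le_top : U ≤ ⊤)).op
        (q.hom.app (op (⊤ : Opens X)) (show Γ(X, ⊤) from g * g - g)) =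
        q.hom.app (op U) (show Γ(X, U) from X.presheaf.map (homOfLE (le_top : U ≤ ⊤)).op (g * g - g)) :=
      fun U ↦ (NatTrans.naturality_apply q.hom (homOfLE (le_top : U ≤ ⊤)).op _).symm
    have h0 : q.hom.app (op (⊤ : Opens X)) (show Γ(X, ⊤) from g * g - g) = 0 := by
      refine section_ext _ U₁ U₂ hcov' _ _ ?_ ?_
      · rw [map_zero, hres]
        refine Eq.trans (congrArg (q.hom.app (op U₁)) ?_) (hq U₁ (w₁ * X.presheaf.map (homOfLE (le_top : U₁ ≤ ⊤)).op g))
        show X.presheaf.map _ (g * g - g) = X.presheaf.map _ (rho A a) * (w₁ * X.presheaf.map _ g)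
        rw [← mul_assoc, ← hw₁, map_sub, map_mul, sub_mul, one_mul]
      · rw [map_zero, hres]
        refine Eq.trans (congrArg (q.hom.app (op U₂)) ?_)
          (hq U₂ (w₂ * (X.presheaf.map (homOfLE (le_top : U₂ ≤ ⊤)).op g - 1)))
        show X.presheaf.map _ (g * g - g) = X.presheaf.map _ (rho A a) * (w₂ * (X.presheaf.map _ g - 1))
        rw [← mul_assoc, ← hw₂, map_sub, map_mul, mul_sub, mul_one]
    obtain ⟨w, hw⟩ := exists_preimage_section hSE (⊤ : X.Opens) (show Γ(X, ⊤) from g * g - g) h0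
    refine ⟨(show Γ(X, ⊤) from w), hw.symm.trans ?_⟩
    change X.presheaf.map _ (rho A a) * (show Γ(X, ⊤) from w) = _
    rw [Subsingleton.elim (homOfLE (le_top : (⊤ : X.Opens) ≤ ⊤)).op (𝟙 _), X.presheaf.map_id]
    rfl
  have hmem : g * g - g ∈ I.map (algebraMap A Γ(X, ⊤)) :=
    hw ▸ Ideal.mul_mem_right w _ (Ideal.mem_map_of_mem (algebraMap A Γ(X, ⊤)) ha)
  obtain ⟨e, he, heg⟩ := Hensel.exists_idempotent_lift (A := A) (I := I) g hmem
  -- evaluation
  let ev : ∀ x : X, Γ(X, ⊤) →+* X.residueField x := fun x ↦ (X.evaluation ⊤ x trivial).hom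
  have hev : ∀ (x : X) (s : Γ(X, ⊤)), ev x s ≠ 0 ↔ x ∈ X.basicOpen s := fun x s ↦
    X.evaluation_ne_zero_iff_mem_basicOpen (U := ⊤) x trivial s
  have hres : ∀ (U : X.Opens) (x : X) (hx : x ∈ U) (s : Γ(X, ⊤)),
      (X.evaluation U x hx).hom (X.presheaf.map (homOfLE (le_top : U ≤ ⊤)).op s) = ev x s := by
    intro U x hx s
    show X.residue x (X.presheaf.germ U x hx (X.presheaf.map (homOfLE (le_top : U ≤ ⊤)).op s)) = _
    rw [TopCat.Presheaf.germ_res_apply]
    rfl
  have hI : ∀ x : X, I ≤ (f x).asIdeal → I.map (algebraMap A Γ(X, ⊤)) ≤ RingHom.ker (ev x) := by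
    intro x hx
    rw [Ideal.map_le_iff_le_comap]
    intro b hb
    show ev x (rho A b) = 0
    by_contra hne
    exact (mem_basicOpen_rho A b x).mp ((hev x _).mp hne) (hx hb)
  have heg' : ∀ x : X, I ≤ (f x).asIdeal → ev x e = ev x g := fun x hx ↦
    sub_eq_zero.mp (by rw [← map_sub]; exact hI x hx heg)
  have hev01 : ∀ x : X, ev x e ≠ 0 → ev x e = 1 := fun x hx ↦ by
    have := congrArg (ev x) he.eq
    rwa [map_mul, mul_eq_left₀ hx] at this
  refine ⟨X.basicOpen e, ⟨?_, (X.basicOpen e).2⟩, fun x hx ↦ ⟨fun hxD ↦ ?_, fun hxD hxV ↦ ?_⟩⟩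
  · have : ((X.basicOpen e : Set X))ᶜ = X.basicOpen (1 - e) := by
      ext x
      simp only [Set.mem_compl_iff, SetLike.mem_coe, ← hev]
      constructor
      · intro h
        rw [not_not] at h
        rw [map_sub, map_one, h, sub_zero]
        exact one_ne_zero
      · intro h h'
        exact h (by rw [map_sub, map_one, hev01 x h', sub_self])
    exact isOpen_compl_iff.mp (this ▸ (X.basicOpen (1 - e)).2)
  · have h := congrArg (X.evaluation U₁ x (hdisj.notMem_of_mem_left hxD)).hom hw₁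
    rw [map_sub, map_mul, hres, hres, map_one,
      show ev x (rho A a) = 0 from hI x hx (Ideal.mem_map_of_mem _ ha), zero_mul, sub_eq_zero] at h
    exact (hev x e).mp (by rw [heg' x hx, h]; exact one_ne_zero)
  · have h := congrArg (X.evaluation U₂ x (hdisj.notMem_of_mem_right hxD)).hom hw₂
    rw [map_mul, hres, hres, show ev x (rho A a) = 0 from hI x hx (Ideal.mem_map_of_mem _ ha), zero_mul] at h
    exact (hev x e).mpr hxV (by rw [heg' x hx, h])

variable {A : Type u} [CommRing A]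

/-- Every nonempty closed subset of a scheme universally closed over the base meets the part over an
ideal contained in the Jacobson radical. -/
theorem exists_mem_over_ideal {X : Scheme.{u}} (f : X ⟶ Spec (CommRingCat.of A)) [UniversallyClosed f]
    {I : Ideal A} (hI : I ≤ Ideal.jacobson ⊥) (Z : Set X) (hZ : IsClosed Z) (hne : Z.Nonempty) :
    ∃ x ∈ Z, I ≤ (f x).asIdeal := by
  obtain ⟨z, hz⟩ := hne
  obtain ⟨m, hm, hzm⟩ := Ideal.exists_le_maximal (f z).asIdeal (f z).isPrime.ne_top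
  let c : ↥(Spec (CommRingCat.of A)) := (⟨m, hm.isPrime⟩ : PrimeSpectrum A)
  have : c ∈ f '' Z := ((PrimeSpectrum.le_iff_specializes (f z) c).mp hzm).mem_closed
    (f.isClosedMap Z hZ) ⟨z, hz, rfl⟩
  obtain ⟨x, hx, hfx⟩ := this
  refine ⟨x, hx, hfx ▸ hI.trans ?_⟩
  exact sInf_le ⟨bot_le, hm⟩

/-- Clopen subsets are determined over an ideal contained in the Jacobson radical. -/
theorem clopen_eq_of_over_ideal {X : Scheme.{u}} (f : X ⟶ Spec (CommRingCat.of A)) [UniversallyClosed f]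
    {I : Ideal A} (hI : I ≤ Ideal.jacobson ⊥) {V W : Set X} (hV : IsClopen V) (hW : IsClopen W)
    (h : ∀ x : X, I ≤ (f x).asIdeal → (x ∈ V ↔ x ∈ W)) : V = W := by
  have key : ∀ V W : Set X, IsClopen V → IsClopen W → (∀ x : X, I ≤ (f x).asIdeal → (x ∈ V ↔ x ∈ W)) → V ⊆ W := by
    intro V W hV hW h x hx
    by_contra hxW
    obtain ⟨y, ⟨hyV, hyW⟩, hy⟩ := exists_mem_over_ideal f hI (V \ W) (hV.diff hW).1 ⟨x, hx, hxW⟩
    exact hyW ((h y hy).mp hyV)
  exact subset_antisymm (key V W hV hW h) (key W V hW hV fun x hx ↦ (h x hx).symm)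

/-- Zariski connectedness over a noetherian henselian pair. -/
theorem exists_clopen_extension_pair [IsNoetherianRing A] (I : Ideal A) [HenselianRing A I] :
    ∀ {X : Scheme.{u}} (f : X ⟶ Spec (CommRingCat.of A)) [IsProper f] (C₁ C₂ : Set X), IsClosed C₁ → IsClosed C₂ →
      Disjoint C₁ C₂ → (∀ x : X, I ≤ (f x).asIdeal ↔ x ∈ C₁ ∪ C₂) →
      ∃ V : Set X, IsClopen V ∧ C₁ ⊆ V ∧ Disjoint C₂ V := by
  have hIjac : I ≤ Ideal.jacobson ⊥ := HenselianRing.jac
  suffices key : ∀ (J : Ideal A) {X : Scheme.{u}} (f : X ⟶ Spec (CommRingCat.of A)) [IsProper f] (C₁ C₂ : Set X),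
      (∀ x : X, J ≤ (f x).asIdeal) → IsClosed C₁ → IsClosed C₂ →
      Disjoint C₁ C₂ → (∀ x : X, I ≤ (f x).asIdeal ↔ x ∈ C₁ ∪ C₂) →
      ∃ V : Set X, IsClopen V ∧ C₁ ⊆ V ∧ Disjoint C₂ V from
    fun {X} f _ C₁ C₂ h₁ h₂ hd hF ↦ key ⊥ f C₁ C₂ (fun _ ↦ bot_le) h₁ h₂ hd hF
  intro J
  induction J using WellFoundedGT.induction with
  | _ J IH =>
    intro X f _ C₁ C₂ hJ h₁ h₂ hdisj hF
    by_cases hIJ : I ≤ J
    · -- everything lies over the ideal
      have hall : ∀ x, x ∈ C₁ ∪ C₂ := fun x ↦ (hF x).mp (hIJ.trans (hJ x))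
      refine ⟨C₁, ⟨h₁, ?_⟩, subset_rfl, hdisj.symm⟩
      rw [show C₁ = C₂ᶜ from Set.ext fun x ↦ ⟨fun h ↦ hdisj.notMem_of_mem_left h,
        fun h ↦ (hall x).resolve_right h⟩]
      exact h₂.isOpen_compl
    obtain ⟨a, haI, haJ⟩ := Set.not_subset.mp hIJ
    letI : X.Over (Spec (CommRingCat.of A)) := ⟨f⟩
    -- the zero locus of `a`
    let Z : TopologicalSpace.Closeds X := ⟨(X.basicOpen (rho A a) : Set X)ᶜ, (X.basicOpen (rho A a)).2.isClosed_compl⟩
    let Z' : TopologicalSpace.Closeds X := ⟨closure (X.basicOpen (rho A a) : Set X), isClosed_closure⟩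
    let i := (Scheme.IdealSheafData.vanishingIdeal Z).subschemeι
    have hrange : Set.range i = (Z : Set X) := DvrDom.range_vanishingIdeal_subschemeι Z
    obtain ⟨V₂, hV₂, hV₂C₁, hV₂C₂⟩ := IH (J ⊔ Ideal.span {a})
      (lt_of_le_of_ne le_sup_left fun h ↦ haJ (h.ge (Ideal.mem_sup_right (Ideal.mem_span_singleton_self a))))
      (i ≫ f) (i ⁻¹' C₁) (i ⁻¹' C₂)
      (fun p ↦ by
        rw [Scheme.Hom.comp_apply, sup_le_iff, Ideal.span_singleton_le_iff_mem]
        exact ⟨hJ _, not_not.mp fun h ↦ (hrange.le ⟨p, rfl⟩) ((mem_basicOpen_rho A a _).mpr h)⟩)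
      (h₁.preimage i.continuous) (h₂.preimage i.continuous) (hdisj.preimage _)
      (fun p ↦ by rw [Scheme.Hom.comp_apply]; exact hF _)
    -- the closure of the locus where `a` is invertible
    let j := (Scheme.IdealSheafData.vanishingIdeal Z').subschemeι
    have hrange' : Set.range j = (Z' : Set X) := DvrDom.range_vanishingIdeal_subschemeι Z'
    let X' := (Scheme.IdealSheafData.vanishingIdeal Z').subscheme
    haveI : AlgebraicGeometry.IsReduced X' := DvrDom.isReduced_vanishingIdeal_subscheme Z'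
    letI : X'.Over (Spec (CommRingCat.of A)) := ⟨j ≫ f⟩
    haveI : IsProper (X' ↘ Spec (CommRingCat.of A)) := inferInstanceAs (IsProper (j ≫ f))
    have hfj : ∀ q, (X' ↘ Spec (CommRingCat.of A)) q = f (j q) := fun q ↦ Scheme.Hom.comp_apply j f q
    have hbo : ∀ q : X', q ∈ X'.basicOpen (rho A a) ↔ j q ∈ X.basicOpen (rho A a) := fun q ↦ by
      rw [mem_basicOpen_rho, mem_basicOpen_rho, hfj]
      rfl
    haveI : IsLocallyNoetherian X := LocallyOfFiniteType.isLocallyNoetherian f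
    haveI : CompactSpace X := QuasiCompact.compactSpace_of_compactSpace f
    haveI : IsNoetherian X := {}
    haveI := mono_smulAb_of_dense A a (X := X') fun q ↦ by
      -- points of the closure have generisations in the open
      obtain ⟨ξ, hξ, hξq⟩ := ConsEngine.exists_specializes_of_mem_closure
        (E := (X.basicOpen (rho A a) : Set X)) (by
          have h := ConsTop.isLocallyConstructible_compl
            (ConsEngine.isLocallyConstructible_of_isClosed (Z := X) (X.basicOpen (rho A a)).2.isClosed_compl)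
          rwa [compl_compl] at h)
        (show j q ∈ closure (X.basicOpen (rho A a) : Set X) from hrange'.le ⟨q, rfl⟩)
      obtain ⟨ξ', rfl⟩ : ξ ∈ Set.range j := hrange'.ge (subset_closure hξ)
      exact ⟨ξ', j.isEmbedding.isInducing.specializes_iff.mp hξq, (hbo ξ').mpr hξ⟩
    let e := i.isEmbedding
    obtain ⟨V₁, hV₁, hV₁'⟩ := exists_clopen_of_zeroLocus_pair A I a (X := X') haI
      (j ⁻¹' (i '' V₂)) (j ⁻¹' (i '' V₂ᶜ))
      ((i.isClosedEmbedding.isClosedMap _ hV₂.1).preimage j.continuous)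
      ((i.isClosedEmbedding.isClosedMap _ hV₂.compl.1).preimage j.continuous)
      (((Set.disjoint_image_iff e.injective).mpr disjoint_compl_right).preimage _)
      (fun q hq ↦ by
        obtain ⟨p, hp⟩ : j q ∈ Set.range i := hrange ▸ (fun h ↦ hq ((hbo q).mpr h))
        by_cases h : p ∈ V₂
        · exact Or.inl ⟨p, h, hp⟩
        · exact Or.inr ⟨p, h, hp⟩)
    let V := i '' V₂ ∪ j '' V₁
    let W := i '' V₂ᶜ ∪ j '' V₁ᶜ
    have hVc : IsClosed V :=
      (i.isClosedEmbedding.isClosedMap _ hV₂.1).union (j.isClosedEmbedding.isClosedMap _ hV₁.1)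
    have hWc : IsClosed W :=
      (i.isClosedEmbedding.isClosedMap _ hV₂.compl.1).union (j.isClosedEmbedding.isClosedMap _ hV₁.compl.1)
    have hVW : ∀ x, x ∈ V ∪ W := fun x ↦ by
      by_cases hx : x ∈ X.basicOpen (rho A a)
      · obtain ⟨q, rfl⟩ : x ∈ Set.range j := hrange'.ge (subset_closure hx)
        by_cases h : q ∈ V₁
        · exact Or.inl (Or.inr ⟨q, h, rfl⟩)
        · exact Or.inr (Or.inr ⟨q, h, rfl⟩)
      · obtain ⟨p, rfl⟩ : x ∈ Set.range i := hrange.ge hx
        by_cases h : p ∈ V₂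
        · exact Or.inl (Or.inl ⟨p, h, rfl⟩)
        · exact Or.inr (Or.inl ⟨p, h, rfl⟩)
    have hzero : ∀ q : X', I ≤ (f (j q)).asIdeal → j q ∈ Set.range i := fun q hq ↦
      hrange.ge fun h ↦ (mem_basicOpen_rho A a (j q)).mp h (hq haI)
    have hVF : ∀ x ∈ V, I ≤ (f x).asIdeal → x ∈ C₁ := by
      rintro x (⟨p, hp, rfl⟩ | ⟨q, hq, rfl⟩) hx
      · exact ((hF _).mp hx).resolve_right fun h ↦ hV₂C₂.notMem_of_mem_left h hp
      · refine ((hF _).mp hx).resolve_right fun h ↦ ?_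
        obtain ⟨p, hp⟩ := hzero q hx
        exact (hV₁' q ((hfj q).symm ▸ hx)).2 ⟨p, hV₂C₂.notMem_of_mem_left (show i p ∈ C₂ from hp ▸ h), hp⟩ hq
    have hWF : ∀ x ∈ W, I ≤ (f x).asIdeal → x ∈ C₂ := by
      rintro x (⟨p, hp, rfl⟩ | ⟨q, hq, rfl⟩) hx
      · exact ((hF _).mp hx).resolve_left fun h ↦ hp (hV₂C₁ h)
      · refine ((hF _).mp hx).resolve_left fun h ↦ ?_
        obtain ⟨p, hp⟩ := hzero q hx
        exact hq ((hV₁' q ((hfj q).symm ▸ hx)).1 ⟨p, hV₂C₁ (show i p ∈ C₁ from hp ▸ h), hp⟩)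
    have hdVW : Disjoint V W := by
      rw [Set.disjoint_iff_inter_eq_empty]
      by_contra h
      obtain ⟨x, ⟨hxV, hxW⟩, hx⟩ := exists_mem_over_ideal f hIjac (V ∩ W) (hVc.inter hWc)
        (Set.nonempty_iff_ne_empty.mpr h)
      exact hdisj.notMem_of_mem_left (hVF x hxV hx) (hWF x hxW hx)
    refine ⟨V, ⟨hVc, ?_⟩, fun x hx ↦ ?_, Set.disjoint_left.mpr fun x hx hxV ↦ ?_⟩
    · rw [show V = Wᶜ from Set.ext fun x ↦ ⟨fun h ↦ hdVW.notMem_of_mem_left h, fun h ↦ (hVW x).resolve_right h⟩]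
      exact hWc.isOpen_compl
    · exact (hVW x).resolve_right fun h ↦ hdisj.notMem_of_mem_left hx (hWF x h ((hF x).mpr (Or.inl hx)))
    · exact hdisj.notMem_of_mem_left (hVF x hxV ((hF x).mpr (Or.inr hx))) hx

end Groth.Agent.ZarConn
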