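import Groth.Agent.ZarConn.PairComponents
import Groth.Agent.ProperModel.Basic
import Groth.Agent.Hensel.PairEnvelopeProps
import Groth.Agent.Hensel.PairNoeth

/-!
# Zariski connectedness over henselian pairs, for proper morphisms of finite presentation

Approximation by subrings of finite type and their henselisations reduces the statement to noetherian pairs.
-/

set_option autoImplicit false

universe u

open CategoryTheory CategoryTheory.Limits AlgebraicGeometry TopologicalSpace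

set_option backward.isDefEq.respectTransparency false
set_option linter.style.haveILetI false

noncomputable section

namespace Groth.Agent.ZarConn

open LimDesc

/-- Clopen subsets of a limit with affine transition maps come from a stage. -/
theorem exists_clopen_stage {I : Type u} [SmallCategory I] [IsCofiltered I] (D : I ⥤ Scheme.{u})
    [∀ {i j} (f : i ⟶ j), IsAffineHom (D.map f)] [∀ i, CompactSpace (D.obj i)]
    [∀ i, QuasiSeparatedSpace (D.obj i)] (c : Cone D) (hc : IsLimit c)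
    (C : Set c.pt) (hC : IsClopen C) :
    ∃ (i : I) (V : Set (D.obj i)), IsClopen V ∧ c.π.app i ⁻¹' V = C := by
  haveI : CompactSpace c.pt := Scheme.compactSpace_of_isLimit D c hc
  obtain ⟨i₁, V₁, hV₁, hC₁⟩ := exists_preimage_eq D c hc ⟨C, hC.2⟩ hC.1.isCompact
  obtain ⟨i₂, V₂, hV₂, hC₂⟩ := exists_preimage_eq D c hc ⟨Cᶜ, hC.1.isOpen_compl⟩ hC.compl.1.isCompact
  obtain ⟨i, a₁, a₂, -⟩ := IsCofilteredOrEmpty.cone_objs i₁ i₂
  let W₁ := D.map a₁ ⁻¹ᵁ V₁
  let W₂ := D.map a₂ ⁻¹ᵁ V₂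
  have h₁ : c.π.app i ⁻¹ᵁ W₁ = ⟨C, hC.2⟩ := by
    rw [← hC₁, ← Scheme.Hom.comp_preimage, c.w]
  have h₂ : c.π.app i ⁻¹ᵁ W₂ = ⟨Cᶜ, hC.1.isOpen_compl⟩ := by
    rw [← hC₂, ← Scheme.Hom.comp_preimage, c.w]
  have hW₁ : IsCompact (W₁ : Set (D.obj i)) := QuasiCompact.isCompact_preimage _ V₁.2 hV₁
  have hW₂ : IsCompact (W₂ : Set (D.obj i)) := QuasiCompact.isCompact_preimage _ V₂.2 hV₂
  obtain ⟨j, b, hb⟩ := exists_map_preimage_eq_map_preimage D c hc
    (U := W₁ ⊓ W₂) (V := ⊥) (hW₁.inter_of_isOpen hW₂ W₁.2 W₂.2) (by simp) (by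
      rw [Scheme.Hom.preimage_inf, h₁, h₂]
      exact Opens.ext (Set.inter_compl_self C))
  let U₁ := D.map b ⁻¹ᵁ W₁
  let U₂ := D.map b ⁻¹ᵁ W₂
  obtain ⟨k, e, he⟩ := exists_map_eq_top D c hc (i := j) (U₁ ⊔ U₂) (by
    have e₁ : c.π.app j ⁻¹ᵁ U₁ = ⟨C, hC.2⟩ :=
      ((Scheme.Hom.comp_preimage (c.π.app j) (D.map b) W₁).symm.trans (by rw [c.w])).trans h₁
    have e₂ : c.π.app j ⁻¹ᵁ U₂ = ⟨Cᶜ, hC.1.isOpen_compl⟩ :=
      ((Scheme.Hom.comp_preimage (c.π.app j) (D.map b) W₂).symm.trans (by rw [c.w])).trans h₂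
    rw [Scheme.Hom.preimage_sup, e₁, e₂]
    exact Opens.ext (Set.union_compl_self C))
  refine ⟨k, (D.map e ⁻¹ᵁ U₁ : (D.obj k).Opens), ⟨?_, (D.map e ⁻¹ᵁ U₁).2⟩, ?_⟩
  · have hdisj : U₁ ⊓ U₂ = ⊥ := by
      rw [← Scheme.Hom.preimage_inf, hb]
      rfl
    rw [← isOpen_compl_iff]
    rw [show ((D.map e ⁻¹ᵁ U₁ : (D.obj k).Opens) : Set (D.obj k))ᶜ = (D.map e ⁻¹ᵁ U₂ : (D.obj k).Opens) from
      Set.ext fun x ↦ ⟨fun hx ↦ (he.ge (Set.mem_univ x)).resolve_left hx,
        fun hx hx' ↦ (hdisj.le ⟨hx', hx⟩ : D.map e x ∈ (⊥ : (D.obj j).Opens))⟩]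
    exact (D.map e ⁻¹ᵁ U₂).2
  · show ((c.π.app k ⁻¹ᵁ D.map e ⁻¹ᵁ U₁ : c.pt.Opens) : Set c.pt) = C
    rw [← Scheme.Hom.comp_preimage, c.w, ← Scheme.Hom.comp_preimage, c.w, h₁]
    rfl

/-- A proper morphism of finite presentation to an affine scheme comes from a subring of finite type. -/
theorem exists_model_proper {A : Type u} [CommRing A] {X : Scheme.{u}} (f : X ⟶ Spec (CommRingCat.of A))
    [IsProper f] [LocallyOfFinitePresentation f] :
    ∃ A₀ : Subalgebra ℤ A, A₀.FG ∧ ∃ (X₀ : Scheme.{u}) (f₀ : X₀ ⟶ Spec (CommRingCat.of ↥A₀)) (g : X ⟶ X₀),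
      IsProper f₀ ∧ LocallyOfFinitePresentation f₀ ∧
        IsPullback g f f₀ (Spec.map (CommRingCat.ofHom (algebraMap (↥A₀) A))) := by
  let D := LimModel.fgDiagram A
  let c := LimModel.fgCone A
  let hc := LimModel.fgIsLimit A
  haveI : IsCofiltered (LimModel.FgSub A)ᵒᵖ := isCofiltered_op_of_isFiltered _
  haveI : ∀ {i j : (LimModel.FgSub A)ᵒᵖ} (f : i ⟶ j), IsAffineHom (D.map f) := fun f =>
    inferInstanceAs (IsAffineHom ((LimModel.fgDiagram A).map f))
  haveI : ∀ i : (LimModel.FgSub A)ᵒᵖ, IsAffine (D.obj i) := fun i => inferInstanceAs (IsAffine (Spec _))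
  haveI : ∀ i : (LimModel.FgSub A)ᵒᵖ, IsLocallyNoetherian (D.obj i) := fun i => by
    have := Algebra.FiniteType.isNoetherianRing ℤ i.unop.1
      (h := i.unop.1.fg_iff_finiteType.mp i.unop.2)
    exact inferInstanceAs (IsLocallyNoetherian (Spec (CommRingCat.of i.unop.1)))
  let a : X ⟶ c.pt := f
  haveI : IsProper a := ‹IsProper f›
  haveI : LocallyOfFinitePresentation a := ‹LocallyOfFinitePresentation f›
  obtain ⟨i, Xi, fi, g, h1, h2, h3, h4⟩ := LimModel.exists_model D c hc a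
  haveI := h1; haveI := h2; haveI := h3
  have : CompactSpace Xi := QuasiCompact.compactSpace_of_compactSpace fi
  obtain ⟨l, hl₀⟩ := LimMore.exists_isSeparated_of_compactSpace D c hc fi (𝟙 _) (LimMore.isPullback_id D c) h4
  haveI : IsSeparated (toStage D fi l) := (LimMore.stageMap_id_iff D fi @IsSeparated l).1 hl₀
  haveI : LocallyOfFinitePresentation (toStage D fi l) :=
    MorphismProperty.of_isPullback (P := @LocallyOfFinitePresentation) (isPullback_stage D fi l) h1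
  haveI : QuasiCompact (toStage D fi l) :=
    MorphismProperty.of_isPullback (P := @QuasiCompact) (isPullback_stage D fi l) h2
  have hl := isPullback_proj D fi c h4 l
  obtain ⟨k, φ, hk⟩ := ProperModel.exists_isProper_stage D hc (i₀ := l.left) (toStage D fi l) hl
  refine ⟨k.unop.1, k.unop.2, pullback (toStage D fi l) (D.map φ), pullback.snd _ _,
    proj D (toStage D fi l) c hl (Over.mk φ), hk, MorphismProperty.pullback_snd _ _ inferInstance, ?_⟩
  exact isPullback_proj D (toStage D fi l) c hl (Over.mk φ)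

/-- Data of finite type carrying a clopen subset of the part over the ideal. -/
theorem exists_stage_pair {A : Type u} [CommRing A] (I : Ideal A) (A₀ : Subalgebra ℤ A) (hA₀ : A₀.FG)
    {X₀ : Scheme.{u}} (f₀ : X₀ ⟶ Spec (CommRingCat.of ↥A₀)) [QuasiCompact f₀] [QuasiSeparated f₀]
    {X : Scheme.{u}} (f : X ⟶ Spec (CommRingCat.of A)) {g : X ⟶ X₀}
    (h : IsPullback g f f₀ (Spec.map (CommRingCat.ofHom (algebraMap (↥A₀) A))))
    (C : Set ↥(pullback f (Spec.map (CommRingCat.ofHom (Ideal.Quotient.mk I))))) (hC : IsClopen C) :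
    ∃ (B : Subalgebra ℤ A) (_ : B.FG) (hB : A₀ ≤ B) (Bb : Type u) (_ : CommRing Bb) (q : ↥B →+* Bb)
      (incl : Bb →+* A ⧸ I),
      Function.Surjective q ∧ Function.Injective incl ∧
      (∀ b : ↥B, incl (q b) = Ideal.Quotient.mk I (b : A)) ∧
      ∃ (V : Set ↥(pullback f₀ (Spec.map (CommRingCat.ofHom (q.comp (Subalgebra.inclusion hB).toRingHom)))))
        (π : pullback f (Spec.map (CommRingCat.ofHom (Ideal.Quotient.mk I))) ⟶
          pullback f₀ (Spec.map (CommRingCat.ofHom (q.comp (Subalgebra.inclusion hB).toRingHom)))),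
        IsClopen V ∧ π ⁻¹' V = C ∧
        π ≫ pullback.fst _ _ = pullback.fst _ _ ≫ g ∧
        π ≫ pullback.snd _ _ = pullback.snd _ _ ≫ Spec.map (CommRingCat.ofHom incl) := by
  classical
  let qI : A →ₐ[ℤ] A ⧸ I := Ideal.Quotient.mkₐ ℤ I
  let i₀ : (LimModel.FgSub (A ⧸ I))ᵒᵖ := Opposite.op ⟨A₀.map qI, hA₀.map qI⟩
  let D := LimModel.fgDiagram (A ⧸ I)
  let c := LimModel.fgCone (A ⧸ I)
  haveI : IsCofiltered (LimModel.FgSub (A ⧸ I))ᵒᵖ := isCofiltered_op_of_isFiltered _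
  haveI : ∀ {i j : (LimModel.FgSub (A ⧸ I))ᵒᵖ} (f : i ⟶ j), IsAffineHom (D.map f) := fun f =>
    inferInstanceAs (IsAffineHom ((LimModel.fgDiagram (A ⧸ I)).map f))
  haveI : ∀ i : (LimModel.FgSub (A ⧸ I))ᵒᵖ, IsAffine (D.obj i) := fun i => inferInstanceAs (IsAffine (Spec _))
  let t : ↥A₀ →+* ↥(A₀.map qI) :=
    ((qI.comp A₀.val).codRestrict (A₀.map qI) fun a ↦ ⟨a, a.2, rfl⟩).toRingHom
  let u₀ : D.obj i₀ ⟶ Spec (CommRingCat.of ↥A₀) := Spec.map (CommRingCat.ofHom t)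
  let g₀ := pullback.snd f₀ u₀
  let P := pullback f (Spec.map (CommRingCat.ofHom (Ideal.Quotient.mk I)))
  let g' : P ⟶ c.pt := pullback.snd f (Spec.map (CommRingCat.ofHom (Ideal.Quotient.mk I)))
  have hw : Spec.map (CommRingCat.ofHom (Ideal.Quotient.mk I)) ≫
      Spec.map (CommRingCat.ofHom (algebraMap (↥A₀) A)) = c.π.app i₀ ≫ u₀ := by
    show _ = Spec.map _ ≫ Spec.map _
    rw [← Spec.map_comp, ← Spec.map_comp]
    rfl
  have hbig : IsPullback (pullback.fst f (Spec.map (CommRingCat.ofHom (Ideal.Quotient.mk I))) ≫ g) g' f₀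
      (c.π.app i₀ ≫ u₀) := by
    rw [← hw]
    exact (IsPullback.of_hasPullback f (Spec.map (CommRingCat.ofHom (Ideal.Quotient.mk I)))).paste_horiz h
  let qY : P ⟶ pullback f₀ u₀ := pullback.lift (pullback.fst f _ ≫ g) (g' ≫ c.π.app i₀) (by
    rw [hbig.w, Category.assoc])
  have hY : IsPullback qY g' g₀ (c.π.app i₀) :=
    IsPullback.of_right (by rw [pullback.lift_fst]; exact hbig) (pullback.lift_snd _ _ _)
      (IsPullback.of_hasPullback f₀ u₀)
  haveI : CompactSpace ↥(pullback f₀ u₀) := QuasiCompact.compactSpace_of_compactSpace g₀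
  haveI : QuasiSeparatedSpace ↥(pullback f₀ u₀) := quasiSeparatedSpace_of_quasiSeparated g₀
  haveI : ∀ j, CompactSpace ((tower D g₀).obj j) := fun j => compactSpace_stage D g₀ j
  haveI : ∀ j, QuasiSeparatedSpace ((tower D g₀).obj j) := fun j => quasiSeparatedSpace_stage D g₀ j
  obtain ⟨j, V, hV, hVC⟩ := exists_clopen_stage (tower D g₀) (towerCone D g₀ c hY)
    (isLimitTowerCone D g₀ c hY (LimModel.fgIsLimit (A ⧸ I))) C hC
  -- lift the stage to a subring of `A`
  let Bb : Subalgebra ℤ (A ⧸ I) := j.left.unop.1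
  have hle : A₀.map qI ≤ Bb := leOfHom j.hom.unop
  obtain ⟨s, hs⟩ := j.left.unop.2
  choose lift hlift using fun z : A ⧸ I ↦ Ideal.Quotient.mk_surjective z
  let B : Subalgebra ℤ A := A₀ ⊔ Algebra.adjoin ℤ (lift '' (s : Set (A ⧸ I)))
  have hBfg : B.FG := hA₀.sup ⟨s.image lift, by rw [Finset.coe_image]⟩
  have hmap : B.map qI = Bb := by
    rw [Algebra.map_sup, AlgHom.map_adjoin, Set.image_image]
    have : (fun z ↦ qI (lift z)) '' (s : Set (A ⧸ I)) = s := by
      simp [qI, hlift]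
    rw [this, hs]
    exact sup_eq_right.mpr hle
  let q : ↥B →+* ↥Bb := ((qI.comp B.val).codRestrict Bb fun b ↦ hmap.le ⟨b, b.2, rfl⟩).toRingHom
  have hq : Function.Surjective q := fun z ↦ by
    obtain ⟨b, hb, hbz⟩ := hmap.ge z.2
    exact ⟨⟨b, hb⟩, Subtype.ext hbz⟩
  refine ⟨B, hBfg, le_sup_left, ↥Bb, inferInstance, q, Bb.val.toRingHom, hq, Subtype.val_injective,
    fun b ↦ rfl, ?_⟩
  -- the stage is a base change of the model
  let v := Spec.map (CommRingCat.ofHom (q.comp (Subalgebra.inclusion (le_sup_left : A₀ ≤ B)).toRingHom))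
  have hv : D.map j.hom ≫ u₀ = v := by
    show Spec.map _ ≫ Spec.map _ = _
    rw [← Spec.map_comp]
    rfl
  have hst : IsPullback (toBase D g₀ j ≫ pullback.fst f₀ u₀) (toStage D g₀ j) f₀ v := by
    rw [← hv]
    exact (isPullback_stage D g₀ j).paste_horiz (IsPullback.of_hasPullback f₀ u₀)
  let e := hst.isoPullback
  refine ⟨e.inv ⁻¹' V, proj D g₀ c hY j ≫ e.hom, hV.preimage e.inv.continuous, ?_, ?_, ?_⟩
  · rw [← hVC]
    ext x
    show e.inv ((proj D g₀ c hY j ≫ e.hom) x) ∈ V ↔ proj D g₀ c hY j x ∈ V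
    rw [← Scheme.Hom.comp_apply, Category.assoc, e.hom_inv_id, Category.comp_id]
  · rw [Category.assoc, hst.isoPullback_hom_fst, proj_toBase_assoc, pullback.lift_fst]
  · rw [Category.assoc, hst.isoPullback_hom_snd, proj_toStage]
    rfl

/-- Zariski connectedness over a henselian pair for proper morphisms of finite presentation. -/
theorem exists_clopen_extension_fp {A : Type u} [CommRing A] (I : Ideal A) [HenselianRing A I]
    {X : Scheme.{u}} (f : X ⟶ Spec (CommRingCat.of A)) [IsProper f] [LocallyOfFinitePresentation f]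
    (C₁ C₂ : Set X) (h₁ : IsClosed C₁) (h₂ : IsClosed C₂)
    (hdisj : Disjoint C₁ C₂) (hF : ∀ x : X, I ≤ (f x).asIdeal ↔ x ∈ C₁ ∪ C₂) :
    ∃ W : Set X, IsClopen W ∧ C₁ ⊆ W ∧ Disjoint C₂ W := by
  obtain ⟨A₀, hA₀, X₀, f₀, g, hp, hfp, hsq⟩ := exists_model_proper f
  haveI := hp
  let ι := pullback.fst f (Spec.map (CommRingCat.ofHom (Ideal.Quotient.mk I)))
  have hrange : Set.range ι = {x : X | I ≤ (f x).asIdeal} := range_fst_quotient I f
  have hC : IsClopen (ι ⁻¹' C₁) := by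
    refine ⟨h₁.preimage ι.continuous, ?_⟩
    rw [show ι ⁻¹' C₁ = (ι ⁻¹' C₂)ᶜ from Set.ext fun p ↦ ⟨fun h ↦ hdisj.notMem_of_mem_left h,
      fun h ↦ ((hF _).mp (hrange.le ⟨p, rfl⟩)).resolve_right h⟩]
    exact (h₂.preimage ι.continuous).isOpen_compl
  obtain ⟨B, hBfg, hB, Bb, _, q, incl, hq, hincl, hqA, V, π, hV, hVC, hπ₁, hπ₂⟩ :=
    exists_stage_pair I A₀ hA₀ f₀ f hsq (ι ⁻¹' C₁) hC
  haveI : IsNoetherianRing ↥B :=
    Algebra.FiniteType.isNoetherianRing ℤ ↥B (h := B.fg_iff_finiteType.mp hBfg)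
  let J : Ideal ↥B := I.comap B.val.toRingHom
  have hkerq : RingHom.ker q = J := by
    ext b
    rw [RingHom.mem_ker, ← (map_eq_zero_iff incl hincl), hqA, Ideal.Quotient.eq_zero_iff_mem]
    rfl
  let H := Hensel.PairEnv ↥B J
  have hH : Hens2.IsPairHenselization ↥B J H := Hensel.isPairHenselization_pairEnv ↥B J
  haveI : HenselianRing H (J.map (algebraMap ↥B H)) := hH.1
  haveI : IsNoetherianRing H := Hensel.isNoetherianRing_pairHenselization hH
  obtain ⟨γ, hγ, -⟩ := hH.2 A I B.val.toRingHom inferInstance (Ideal.map_comap_le)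
  -- the reduction of the henselisation
  obtain ⟨r, hr, hrsurj, hrker⟩ : ∃ r : H →+* Bb, r.comp (algebraMap ↥B H) = q ∧ Function.Surjective r ∧
      J.map (algebraMap ↥B H) ≤ RingHom.ker r ∧ ∀ z, r z = 0 → z ∈ J.map (algebraMap ↥B H) := by
    have hb := Hensel.pairHenselization_quotient_bijective hH 1
    let eq1 := RingEquiv.ofBijective _ hb
    let r₀ : H →+* ↥B ⧸ J ^ 1 := eq1.symm.toRingHom.comp (Ideal.Quotient.mk _)
    let r₁ : ↥B ⧸ J ^ 1 →+* Bb := Ideal.Quotient.lift _ q fun b hb ↦ by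
      rwa [pow_one, ← hkerq] at hb
    have hr₀ : ∀ b, r₀ (algebraMap ↥B H b) = Ideal.Quotient.mk (J ^ 1) b := fun b ↦ by
      refine eq1.injective ?_
      show eq1 (eq1.symm _) = eq1 _
      rw [eq1.apply_symm_apply]
      rfl
    refine ⟨r₁.comp r₀, RingHom.ext fun b ↦ ?_, fun z ↦ ?_, ?_, fun z hz ↦ ?_⟩
    · show r₁ (r₀ _) = q b
      rw [hr₀]; rfl
    · obtain ⟨b, rfl⟩ := hq z
      exact ⟨algebraMap ↥B H b, by show r₁ (r₀ _) = _; rw [hr₀]; rfl⟩
    · rw [Ideal.map_le_iff_le_comap]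
      intro b hb
      show r₁ (r₀ _) = 0
      rw [hr₀]
      exact (hkerq.ge hb : q b = 0)
    · obtain ⟨b, hb'⟩ := Ideal.Quotient.mk_surjective (r₀ z)
      have hzb : r₀ (z - algebraMap ↥B H b) = 0 := by rw [map_sub, hr₀, hb', sub_self]
      have hb0 : b ∈ J := hkerq.le (show q b = 0 from by
        have : r₁ (r₀ z) = 0 := hz
        rwa [← hb'] at this)
      have h2 := (Ideal.Quotient.eq_zero_iff_mem).mp
        ((map_eq_zero_iff eq1.symm.toRingHom eq1.symm.injective).mp hzb)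
      rw [pow_one] at h2
      simpa using add_mem h2 (Ideal.mem_map_of_mem (algebraMap ↥B H) hb0)
  obtain ⟨hrJ, hrker⟩ := hrker
  -- the scheme over the henselisation
  let σ : Spec (CommRingCat.of H) ⟶ Spec (CommRingCat.of ↥A₀) :=
    Spec.map (CommRingCat.ofHom ((algebraMap ↥B H).comp (Subalgebra.inclusion hB).toRingHom))
  let fH := pullback.snd f₀ σ
  haveI : IsProper fH := MorphismProperty.pullback_snd _ _ inferInstance
  let sr : Spec (CommRingCat.of Bb) ⟶ Spec (CommRingCat.of H) := Spec.map (CommRingCat.ofHom r)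
  haveI : IsClosedImmersion sr := IsClosedImmersion.spec_of_surjective _ hrsurj
  let S := pullback f₀ (Spec.map (CommRingCat.ofHom (q.comp (Subalgebra.inclusion hB).toRingHom)))
  have hwr : Spec.map (CommRingCat.ofHom (q.comp (Subalgebra.inclusion hB).toRingHom)) = sr ≫ σ := by
    show _ = Spec.map _ ≫ Spec.map _
    rw [← Spec.map_comp]
    congr 1
    rw [← hr]
    rfl
  let κ : S ⟶ pullback f₀ σ := pullback.lift (pullback.fst _ _) (pullback.snd _ _ ≫ sr) (by
    exact (pullback.condition).trans (by rw [Category.assoc, ← hwr]))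
  have hκ : IsPullback κ (pullback.snd f₀ _) fH sr := by
    refine IsPullback.of_right ?_ (pullback.lift_snd _ _ _) (IsPullback.of_hasPullback f₀ σ)
    rw [pullback.lift_fst, ← hwr]
    exact IsPullback.of_hasPullback _ _
  haveI : IsClosedImmersion κ := MorphismProperty.of_isPullback (P := @IsClosedImmersion) hκ.flip inferInstance
  have hκr : ∀ x, x ∈ Set.range κ ↔ J.map (algebraMap ↥B H) ≤ (fH x).asIdeal := by
    intro x
    have hsr : ∀ p : ↥(Spec (CommRingCat.of H)), p ∈ Set.range sr ↔ J.map (algebraMap ↥B H) ≤ p.asIdeal := by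
      intro p
      show p ∈ Set.range (PrimeSpectrum.comap r) ↔ _
      rw [range_comap_of_surjective _ _ hrsurj, PrimeSpectrum.mem_zeroLocus, SetLike.coe_subset_coe]
      exact ⟨fun h ↦ hrJ.trans h, fun h z hz ↦ h (hrker z hz)⟩
    constructor
    · rintro ⟨t, rfl⟩
      refine (hsr _).mp ⟨pullback.snd f₀ _ t, ?_⟩
      rw [← Scheme.Hom.comp_apply, ← hκ.w, Scheme.Hom.comp_apply]
    · intro hx
      obtain ⟨p, hp⟩ := (hsr _).mpr hx
      obtain ⟨t, ht, -⟩ := Scheme.exists_preimage_of_isPullback hκ x p hp.symm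
      exact ⟨t, ht⟩
  obtain ⟨W, hW, hW₁, hW₂⟩ := exists_clopen_extension_pair (J.map (algebraMap ↥B H)) fH (κ '' V) (κ '' Vᶜ)
    (κ.isClosedEmbedding.isClosedMap _ hV.1) (κ.isClosedEmbedding.isClosedMap _ hV.compl.1)
    ((Set.disjoint_image_iff κ.isEmbedding.injective).mpr disjoint_compl_right)
    (fun x ↦ ⟨fun hx ↦ by
      obtain ⟨t, rfl⟩ := (hκr x).mpr hx
      by_cases ht : t ∈ V
      · exact Or.inl ⟨t, ht, rfl⟩
      · exact Or.inr ⟨t, ht, rfl⟩,
      fun hx ↦ hx.elim (fun ⟨t, _, h⟩ ↦ (hκr x).mp ⟨t, h⟩) fun ⟨t, _, h⟩ ↦ (hκr x).mp ⟨t, h⟩⟩)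
  let μ : X ⟶ pullback f₀ σ := pullback.lift g (f ≫ Spec.map (CommRingCat.ofHom γ)) (by
    rw [hsq.w, Category.assoc]
    congr 1
    show _ = Spec.map _ ≫ Spec.map _
    rw [← Spec.map_comp]
    congr 1
    refine CommRingCat.hom_ext (RingHom.ext fun a ↦ ?_)
    exact (RingHom.congr_fun hγ (Subalgebra.inclusion hB a)).symm)
  -- compatibility of the two reductions
  have hcomm : (Ideal.Quotient.mk I).comp γ = incl.comp r := by
    refine RingHom.ext fun z ↦ ?_
    obtain ⟨b, hb⟩ := Hensel.pairHenselization_exists_sub_mem_one hH z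
    have h0 : ∀ φ : H →+* A ⧸ I, (∀ b : ↥B, φ (algebraMap ↥B H b) = Ideal.Quotient.mk I (b : A)) →
        φ z = Ideal.Quotient.mk I (b : A) := by
      intro φ hφ
      rw [← hφ b, ← sub_eq_zero, ← map_sub]
      have hle : J.map (algebraMap ↥B H) ≤ RingHom.ker φ := by
        rw [Ideal.map_le_iff_le_comap]
        intro c hc
        show φ (algebraMap ↥B H c) = 0
        rw [hφ, Ideal.Quotient.eq_zero_iff_mem]
        exact hc
      exact hle hb
    rw [h0 _ fun c ↦ congrArg (Ideal.Quotient.mk I) (RingHom.congr_fun hγ c),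
      h0 (incl.comp r) fun c ↦ (congrArg incl (RingHom.congr_fun hr c)).trans (hqA c)]
  have hμ : ι ≫ μ = π ≫ κ := by
    apply pullback.hom_ext
    · simp only [μ, κ, Category.assoc, pullback.lift_fst, ι, hπ₁]
    · simp only [μ, κ, Category.assoc, pullback.lift_snd, reassoc_of% hπ₂, ι]
      rw [pullback.condition_assoc]
      congr 1
      show Spec.map _ ≫ Spec.map _ = Spec.map _ ≫ Spec.map _
      rw [← Spec.map_comp, ← Spec.map_comp]
      congr 1
      exact CommRingCat.hom_ext hcomm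
  have hμ' : ∀ p, μ (ι p) = κ (π p) := fun p ↦ by
    rw [← Scheme.Hom.comp_apply, hμ, Scheme.Hom.comp_apply]
  refine ⟨μ ⁻¹' W, hW.preimage μ.continuous, fun x hx ↦ ?_, Set.disjoint_left.mpr fun x hx hxW ↦ ?_⟩
  · obtain ⟨p, rfl⟩ := hrange.ge ((hF x).mpr (Or.inl hx))
    show μ (ι p) ∈ W
    rw [hμ']
    exact hW₁ ⟨π p, hVC.ge hx, rfl⟩
  · obtain ⟨p, rfl⟩ := hrange.ge ((hF x).mpr (Or.inr hx))
    refine hW₂.notMem_of_mem_left ⟨π p, fun hp ↦ ?_, rfl⟩ (hμ' p ▸ hxW)
    exact hdisj.notMem_of_mem_left (hVC.le hp) hx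

end Groth.Agent.ZarConn
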