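import Groth.Agent.ZarConn.Pair
import Groth.Agent.LocNoethTop.Basic

/-!
# Connected components over noetherian henselian pairs
-/

universe u

open CategoryTheory CategoryTheory.Limits AlgebraicGeometry TopologicalSpace

set_option backward.isDefEq.respectTransparency false
set_option linter.style.haveILetI false

noncomputable section

namespace Groth.Agent.ZarConn

variable {A : Type u} [CommRing A] (I : Ideal A)

/-- The part over the ideal. -/
lemma range_fst_quotient {X : Scheme.{u}} (f : X ⟶ Spec (CommRingCat.of A)) :
    Set.range (pullback.fst f (Spec.map (CommRingCat.ofHom (Ideal.Quotient.mk I)))) =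
      {x : X | I ≤ (f x).asIdeal} := by
  rw [Scheme.Pullback.range_fst]
  ext x
  show f x ∈ Set.range (PrimeSpectrum.comap (Ideal.Quotient.mk I)) ↔ I ≤ (f x).asIdeal
  rw [range_comap_of_surjective _ _ Ideal.Quotient.mk_surjective, Ideal.mk_ker]
  rfl

instance isClosedImmersion_quotientMap :
    IsClosedImmersion (Spec.map (CommRingCat.ofHom (Ideal.Quotient.mk I))) :=
  IsClosedImmersion.spec_of_surjective _ Ideal.Quotient.mk_surjective

/-- Components of the part over the ideal are those of the scheme. -/
theorem bijective_components_pair [IsNoetherianRing A] [HenselianRing A I] {X : Scheme.{u}}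
    (f : X ⟶ Spec (CommRingCat.of A)) [IsProper f] :
    Function.Bijective (Continuous.connectedComponentsMap
      (pullback.fst f (Spec.map (CommRingCat.ofHom (Ideal.Quotient.mk I)))).continuous) := by
  let ι := pullback.fst f (Spec.map (CommRingCat.ofHom (Ideal.Quotient.mk I)))
  let P := pullback f (Spec.map (CommRingCat.ofHom (Ideal.Quotient.mk I)))
  have hrange : Set.range ι = {x : X | I ≤ (f x).asIdeal} := range_fst_quotient I f
  haveI : IsLocallyNoetherian X := LocallyOfFiniteType.isLocallyNoetherian f
  haveI : CompactSpace X := QuasiCompact.compactSpace_of_compactSpace f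
  haveI : IsNoetherian X := {}
  haveI : IsClosedImmersion ι := MorphismProperty.pullback_fst _ _ inferInstance
  haveI : NoetherianSpace P := ι.isEmbedding.isInducing.noetherianSpace
  constructor
  · intro p q hpq
    obtain ⟨a, rfl⟩ := _root_.ConnectedComponents.surjective_coe p
    obtain ⟨b, rfl⟩ := _root_.ConnectedComponents.surjective_coe q
    refine (_root_.ConnectedComponents.coe_eq_coe'.mpr ?_).symm
    by_contra hb
    have hop := LocNoethTop.isOpen_connectedComponent_of_noetherian a
    obtain ⟨V, hV, hC₁, hC₂⟩ := exists_clopen_extension_pair I f (ι '' connectedComponent a)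
      (ι '' (connectedComponent a)ᶜ) (ι.isClosedEmbedding.isClosedMap _ isClosed_connectedComponent)
      (ι.isClosedEmbedding.isClosedMap _ hop.isClosed_compl)
      ((Set.disjoint_image_iff ι.isEmbedding.injective).mpr disjoint_compl_right)
      (fun x ↦ ⟨fun hx ↦ by
        obtain ⟨t, rfl⟩ : x ∈ Set.range ι := hrange.ge hx
        by_cases ht : t ∈ connectedComponent a
        · exact Or.inl ⟨t, ht, rfl⟩
        · exact Or.inr ⟨t, ht, rfl⟩,
        fun hx ↦ hx.elim (fun ⟨t, _, h⟩ ↦ hrange.le ⟨t, h⟩) fun ⟨t, _, h⟩ ↦ hrange.le ⟨t, h⟩⟩)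
    have hab : ι b ∈ connectedComponent (ι a) := _root_.ConnectedComponents.coe_eq_coe'.mp hpq.symm
    exact hC₂.notMem_of_mem_left ⟨b, hb, rfl⟩
      (hV.connectedComponent_subset (hC₁ ⟨a, mem_connectedComponent, rfl⟩) hab)
  · intro q
    obtain ⟨x, rfl⟩ := _root_.ConnectedComponents.surjective_coe q
    obtain ⟨y, hy, hyI⟩ := exists_mem_over_ideal f (HenselianRing.jac : I ≤ _) (connectedComponent x)
      isClosed_connectedComponent ⟨x, mem_connectedComponent⟩
    obtain ⟨t, rfl⟩ : y ∈ Set.range ι := hrange.ge hyI
    exact ⟨_root_.ConnectedComponents.mk t, _root_.ConnectedComponents.coe_eq_coe'.mpr hy⟩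

end Groth.Agent.ZarConn
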