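import Groth.Agent.ZarConn.Near
import Groth.Agent.ProperModel.Basic
import Groth.Agent.GeomRedAt.Open

/-!
# The geometric number of connected components for proper flat morphisms over an arbitrary base
-/

universe u

open CategoryTheory Limits AlgebraicGeometry TopologicalSpace

set_option backward.isDefEq.respectTransparency false
set_option linter.style.haveILetI false

noncomputable section

namespace Groth.Agent.ZarConn

variable {X Y : Scheme.{u}}

lemma isUnivOpenAt_of_flat (f : X ⟶ Y) [Flat f] [LocallyOfFinitePresentation f] (x : X) :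
    EGA43.IsUnivOpenAt f x := fun _ g x' _ U hU ↦ by
  haveI : Flat (pullback.snd f g) := MorphismProperty.pullback_snd _ _ inferInstance
  haveI : LocallyOfFinitePresentation (pullback.snd f g) := MorphismProperty.pullback_snd _ _ inferInstance
  exact (pullback.snd f g).isOpenMap.image_mem_nhds hU

variable (f : X ⟶ Y) [IsProper f] [Flat f] [LocallyOfFinitePresentation f] (y : Y)

/-- Noetherian model of the function near a point. -/
theorem exists_chart : ∃ (V : Y.Opens) (Y₀ X₀ : Scheme.{u}) (f₀ : X₀ ⟶ Y₀) (u : V.toScheme ⟶ Y₀),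
    y ∈ V ∧ IsLocallyNoetherian Y₀ ∧ IsProper f₀ ∧ Flat f₀ ∧ LocallyOfFinitePresentation f₀ ∧
      ∀ z : V.toScheme, MoreMor.nGeomConnComp f z.1 = MoreMor.nGeomConnComp f₀ (u z) ∧
        (GeometricallyReduced (f.fiberToSpecResidueField z.1) ↔
          GeometricallyReduced (f₀.fiberToSpecResidueField (u z))) := by
  obtain ⟨_, ⟨V, hV, rfl⟩, hyV, -⟩ := Y.isBasis_affineOpens.exists_subset_of_mem_open (Set.mem_univ y) isOpen_univ
  let fV := (f ∣_ V) ≫ hV.isoSpec.hom
  haveI : IsProper fV := by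
    haveI : IsProper (f ∣_ V) := IsZariskiLocalAtTarget.restrict (P := @IsProper) ‹_› V
    infer_instance
  obtain ⟨A₀, hA₀, X₀, f₀, g, hp, hfl, hfp, hsq⟩ := ProperModel.exists_model fV
  haveI := Algebra.FiniteType.isNoetherianRing ℤ A₀ (h := A₀.fg_iff_finiteType.mp hA₀)
  let σ := Spec.map (CommRingCat.ofHom (algebraMap (↥A₀) Γ(Y, V)))
  have hsq' : IsPullback g (f ∣_ V) f₀ (hV.isoSpec.hom ≫ σ) :=
    hsq.of_iso (Iso.refl _) (Iso.refl _) hV.isoSpec.symm (Iso.refl _) (by simp) (by simp [fV]) (by simp) (by simp [σ])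
  refine ⟨V, _, X₀, f₀, hV.isoSpec.hom ≫ σ, hyV, inferInstance, hp, hfl, hfp, fun z ↦ ?_⟩
  have hV' := (isPullback_morphismRestrict f V).flip
  exact ⟨(GeomFib.nGeom_baseChange hV' z).2.symm.trans (GeomFib.nGeom_baseChange hsq' z).2,
    (GeomRedSpread.fiber_baseChange_iff hV' z).symm.trans (GeomRedSpread.fiber_baseChange_iff hsq' z)⟩

/-- Lower semicontinuity for proper flat morphisms of finite presentation. -/
theorem exists_nhd_le_flat :
    ∃ V ∈ nhds y, ∀ z ∈ V, MoreMor.nGeomConnComp f y ≤ MoreMor.nGeomConnComp f z := by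
  obtain ⟨V, Y₀, X₀, f₀, u, hyV, _, _, _, _, h⟩ := exists_chart f y
  obtain ⟨W, hW, hle⟩ := exists_nhd_le f₀ (u ⟨y, hyV⟩) fun x _ ↦ isUnivOpenAt_of_flat f₀ x
  refine ⟨V.ι '' (u ⁻¹' W), V.ι.isOpenEmbedding.isOpenMap.image_mem_nhds
    (x := (⟨y, hyV⟩ : V.toScheme)) (u.continuous.continuousAt hW), ?_⟩
  rintro _ ⟨z, hz, rfl⟩
  exact ((h ⟨y, hyV⟩).1.trans_le (hle _ hz)).trans (h z).1.ge

/-- Local constancy at points with geometrically reduced fibre. -/
theorem exists_nhd_eq_flat (hred : GeometricallyReduced (f.fiberToSpecResidueField y)) :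
    ∃ V ∈ nhds y, ∀ z ∈ V, MoreMor.nGeomConnComp f z = MoreMor.nGeomConnComp f y := by
  obtain ⟨V, Y₀, X₀, f₀, u, hyV, _, _, _, _, h⟩ := exists_chart f y
  obtain ⟨W, hW, hle⟩ := exists_nhd_eq f₀ (u ⟨y, hyV⟩) (fun x _ ↦ isUnivOpenAt_of_flat f₀ x)
    ((h ⟨y, hyV⟩).2.mp hred)
  refine ⟨V.ι '' (u ⁻¹' W), V.ι.isOpenEmbedding.isOpenMap.image_mem_nhds
    (x := (⟨y, hyV⟩ : V.toScheme)) (u.continuous.continuousAt hW), ?_⟩
  rintro _ ⟨z, hz, rfl⟩
  exact ((h z).1.trans (hle _ hz)).trans (h ⟨y, hyV⟩).1.symm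

/-- The points with geometrically reduced fibre form an open set. -/
theorem isOpen_setOf_geometricallyReduced :
    IsOpen {z : Y | GeometricallyReduced (f.fiberToSpecResidueField z)} := by
  have h : {z : Y | GeometricallyReduced (f.fiberToSpecResidueField z)} = (f '' {x | GeomRedAt.GR f x}ᶜ)ᶜ := by
    ext z
    simp only [Set.mem_ofPred_eq, Set.mem_compl_iff, Set.mem_image, not_exists, not_and,
      GeomRedAt.geometricallyReduced_fiber_iff_forall]
    exact ⟨fun h x hx hfx ↦ hx (h x hfx), fun h x hfx ↦ by_contra fun hx ↦ h x hx hfx⟩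
  rw [h]
  exact (f.isClosedMap _ (GeomRedAt.isOpen_setOf_gr f).isClosed_compl).isOpen_compl

end Groth.Agent.ZarConn
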