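import Groth.Agent.ZarConn.DvrEq
import Groth.Agent.GeomFib.Consequences
import Groth.Agent.Unibranch.FibreDims
import Groth.Agent.DvrDom.Scheme

/-!
# The geometric number of connected components of the fibres of a proper morphism near a point
-/

universe u

open CategoryTheory Limits AlgebraicGeometry IsLocalRing TopologicalSpace Topology

set_option backward.isDefEq.respectTransparency false
set_option linter.style.haveILetI false
set_option linter.unusedSectionVars false

noncomputable section

namespace Groth.Agent.ZarConn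

variable {X Y : Scheme.{u}} [IsLocallyNoetherian Y] (f : X ⟶ Y) [IsProper f] (y : Y)

/-- The count is finite. -/
theorem exists_nat_eq (z : Y) : ∃ N : ℕ, MoreMor.nGeomConnComp f z = N := by
  let v := GeomFib.geomPt (Y := Y) z
  rw [(GeomFib.nGeom_eq f v z (by
    show Y.fromSpecResidueField z _ = z
    exact Scheme.fromSpecResidueField_apply _ _)).2]
  let P := pullback f v
  haveI : IsLocallyNoetherian P := LocallyOfFiniteType.isLocallyNoetherian (pullback.snd f v)
  haveI : CompactSpace P := QuasiCompact.compactSpace_of_compactSpace (pullback.snd f v)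
  haveI : IsNoetherian P := {}
  haveI := finite_components P
  exact ⟨Nat.card (_root_.ConnectedComponents P), ENat.card_eq_coe_natCard _⟩

/-- The count compared along a specialisation. -/
theorem nGeom_along (h : ∀ x : X, f x = y → EGA43.IsUnivOpenAt f x) (y' : Y) (hy : y' ⤳ y) :
    MoreMor.nGeomConnComp f y ≤ MoreMor.nGeomConnComp f y' ∧
      (GeometricallyReduced (f.fiberToSpecResidueField y) →
        MoreMor.nGeomConnComp f y' = MoreMor.nGeomConnComp f y) := by
  by_cases hne : y = y'
  · subst hne; exact ⟨le_rfl, fun _ ↦ rfl⟩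
  obtain ⟨A₀, g, hA₀, hgc, hgg⟩ := DvrDom.exists_dvr_through (𝟙 Y) y' y (by simpa using hy) (by simpa using hne)
  let K := AlgebraicClosure (ResidueField A₀)
  obtain ⟨A, _, _, _, ι, _, _, ε, hinj, -⟩ := CompleteDvr.exists_complete_dvr_residue A₀ K
  haveI : IsAlgClosed (ResidueField A) := IsAlgClosed.of_ringEquiv K _ ε.symm
  haveI : HenselianLocalRing A := (Hensel.henselianLocalRing_iff A).mpr inferInstance
  let g' : Spec (CommRingCat.of A) ⟶ Y := Spec.map (CommRingCat.ofHom ι) ≫ g
  have hc : g' (cpt A) = y := by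
    rw [Scheme.Hom.comp_apply]
    exact (congrArg g (IsLocalRing.comap_closedPoint ι)).trans hgc
  have hη : g' (gpt A) = y' := by
    rw [Scheme.Hom.comp_apply]
    have h1 : Spec.map (CommRingCat.ofHom ι) (gpt A) = gpt A₀ := PrimeSpectrum.ext
      (show (⊥ : Ideal A).comap ι = ⊥ by rw [← RingHom.ker_eq_comap_bot, (RingHom.injective_iff_ker_eq_bot _).mp hinj])
    let t : ↥(Spec (Y.residueField y')) := IsLocalRing.closedPoint (Y.residueField y')
    have h2 : Spec.map (CommRingCat.ofHom A₀.subtype) t = gpt A₀ :=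
      range_gpt (A := A₀) (K := Y.residueField y') A₀.subtype_injective t
    rw [h1, ← h2, ← Scheme.Hom.comp_apply, hgg]
    exact (congrArg (fun φ => φ t) (Category.comp_id (Y.fromSpecResidueField y'))).trans
      (Scheme.fromSpecResidueField_apply y' t)
  let f' := pullback.snd f g'
  have hsq : IsPullback (pullback.fst f g') f' f g' := IsPullback.of_hasPullback f g'
  have hopen : ∀ x, f' x = cpt A → EGA43.IsUnivOpenAt f' x := fun x hx ↦
    GoingDown.isUnivOpenAt_of_isPullback hsq (h _ (by
      rw [← Scheme.Hom.comp_apply, hsq.w, Scheme.Hom.comp_apply, hx, hc]))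
  have e : ∀ t, MoreMor.nGeomConnComp f' t = MoreMor.nGeomConnComp f (g' t) := fun t ↦
    (GeomFib.nGeom_baseChange hsq t).2
  refine ⟨?_, fun hred ↦ ?_⟩
  · rw [← hc, ← hη, ← e, ← e]
    exact nGeom_le f' (lift_of_open f' hopen)
  · rw [← hc, ← hη, ← e, ← e]
    exact nGeom_eq f' hopen ((GeomRedSpread.fiber_baseChange_iff hsq (cpt A)).mpr (hc.symm ▸ hred))

theorem isLocallyConstructible_le (N : ℕ) :
    IsLocallyConstructible {z : Y | (N : ℕ∞) ≤ MoreMor.nGeomConnComp f z} := by
  induction N with
  | zero =>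
    convert ConsEngine.isLocallyConstructible_of_isClosed (isClosed_univ (X := Y)) using 1
    ext z
    simp
  | succ N ih =>
    have h : IsLocallyConstructible {z : Y | MoreMor.nGeomConnComp f z = (N : ℕ∞)} :=
      GeomFib.isLocallyConstructible_nGeom f (fun f y => MoreMor.nGeomConnComp f y)
        (fun hc y' => (GeomFib.nGeom_baseChange hc y').2)
        (fun f _ _ y => by
          obtain ⟨O, hO, h⟩ := GeomFib.exists_open_nGeom f y
          exact ⟨O, hO, fun y' h1 h2 => (h y' h1 h2).2⟩) N
    convert ih.inter (ConsTop.isLocallyConstructible_compl h) using 1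
    ext z
    obtain ⟨M, hM⟩ := exists_nat_eq f z
    simp only [Set.mem_ofPred_eq, Set.mem_inter_iff, Set.mem_compl_iff, hM, Nat.cast_le, Nat.cast_inj]
    omega

/-- Lower semicontinuity. -/
theorem exists_nhd_le (h : ∀ x : X, f x = y → EGA43.IsUnivOpenAt f x) :
    ∃ V ∈ nhds y, ∀ z ∈ V, MoreMor.nGeomConnComp f y ≤ MoreMor.nGeomConnComp f z := by
  obtain ⟨N, hN⟩ := exists_nat_eq f y
  refine ⟨_, Unibranch.mem_nhds_of_isLocallyConstructible (isLocallyConstructible_le f N)
    (y := y) (fun y' hy' ↦ (hN.symm.trans_le (nGeom_along f y h y' hy').1)), fun z hz ↦ hN.trans_le hz⟩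

/-- Local constancy. -/
theorem exists_nhd_eq (h : ∀ x : X, f x = y → EGA43.IsUnivOpenAt f x)
    (hred : GeometricallyReduced (f.fiberToSpecResidueField y)) :
    ∃ V ∈ nhds y, ∀ z ∈ V, MoreMor.nGeomConnComp f z = MoreMor.nGeomConnComp f y :=
  ⟨_, Unibranch.mem_nhds_of_isLocallyConstructible
    (GeomFib.isLocallyConstructible_nGeom f (fun f y => MoreMor.nGeomConnComp f y)
      (fun hc y' => (GeomFib.nGeom_baseChange hc y').2)
      (fun f _ _ y => by
        obtain ⟨O, hO, h⟩ := GeomFib.exists_open_nGeom f y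
        exact ⟨O, hO, fun y' h1 h2 => (h y' h1 h2).2⟩) (MoreMor.nGeomConnComp f y))
    (y := y) (fun y' hy' ↦ (nGeom_along f y h y' hy').2 hred), fun _ hz ↦ hz⟩

end Groth.Agent.ZarConn
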