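import Groth.Agent.ZarConn.Components
import Groth.Agent.ZarConn.Near
import Groth.Agent.Hensel.HenselizationProps
import Groth.Agent.Hensel.HenselizationNoeth
import Groth.Agent.Hensel.Fibres
import Groth.Agent.Hensel.BranchMore
import Groth.Agent.Hensel.BranchCountStrict
import Groth.Agent.GenComp.Basic

/-!
# Lower semicontinuity of the number of geometric components over a geometrically unibranch point
-/

universe u

open CategoryTheory Limits AlgebraicGeometry IsLocalRing TopologicalSpace

set_option backward.isDefEq.respectTransparency false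
set_option linter.style.haveILetI false
set_option linter.overlappingInstances false

noncomputable section

namespace Groth.Agent.ZarConn

variable {X Y : Scheme.{u}} [IrreducibleSpace Y] [IsLocallyNoetherian Y] (f : X ⟶ Y) [IsProper f]

/-- The argument over a given strict henselisation of the local ring. -/
theorem nGeom_le_strict
    (hdom : ∀ Z ∈ irreducibleComponents (X : Type u), closure (f.base '' Z) = Set.univ) (y₀ : Y)
    (hy : CAlg2.IsGeomUnibranch (Y.presheaf.stalk y₀)) (y' : Y) (h' : y' ⤳ y₀)
    (S : Type u) [CommRing S] [IsLocalRing S] [Algebra (Y.presheaf.stalk y₀) S]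
    [IsLocalHom (algebraMap (Y.presheaf.stalk y₀) S)]
    [_root_.Hensel.IsStrictHenselization (Y.presheaf.stalk y₀) S] :
    MoreMor.nGeomConnComp f y₀ ≤ MoreMor.nGeomConnComp f y' := by
  let R : Type u := Y.presheaf.stalk y₀
  haveI : HenselianLocalRing S := _root_.Hensel.IsStrictHenselization.henselian (R := R)
  haveI : IsNoetherianRing S := (Hensel.strictHenselization_isNoetherianRing_iff R S).mp inferInstance
  haveI := Hensel.strictHenselization_faithfullyFlat R S
  haveI : IsSepClosed (ResidueField S) :=
    (_root_.Hensel.IsStrictHenselization.isSepClosure (R := R) (S := S)).sep_closed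
  have hsub : Subsingleton (minimalPrimes S) := by
    have h1 := Hensel.card_minimalPrimes_strictHenselization (A := R) (S := S)
    rw [(Hensel.numGeomBranches_eq_one_iff R).mpr hy, ENat.card_eq_one_iff_unique] at h1
    obtain ⟨u⟩ := h1
    exact inferInstance
  let σ : Spec (CommRingCat.of S) ⟶ Spec (Y.presheaf.stalk y₀) :=
    Spec.map (CommRingCat.ofHom (algebraMap R S))
  haveI : Flat σ := (HasRingHomProperty.Spec_iff (P := @Flat)).2
    (RingHom.flat_algebraMap_iff.2 (inferInstance : Module.Flat R S))
  let u := σ ≫ Y.fromSpecStalk y₀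
  let g := pullback.snd f u
  have hsq : IsPullback (pullback.fst f u) g f u := IsPullback.of_hasPullback f u
  have huc : u (cpt S) = y₀ := by
    rw [Scheme.Hom.comp_apply, show σ (cpt S) = closedPoint R from IsLocalRing.comap_closedPoint _]
    exact Scheme.fromSpecStalk_closedPoint
  obtain ⟨r, hr⟩ : ∃ r, Y.fromSpecStalk y₀ r = y' := by
    have : y' ∈ Set.range (Y.fromSpecStalk y₀) := by rw [Scheme.range_fromSpecStalk]; exact h'
    exact this
  obtain ⟨q, hq⟩ := PrimeSpectrum.comap_surjective_of_faithfullyFlat (A := R) (B := S) r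
  have huq : u q = y' := by rw [Scheme.Hom.comp_apply, show σ q = r from hq, hr]
  rw [← huc, ← huq, ← (GeomFib.nGeom_baseChange hsq (cpt S)).2, ← (GeomFib.nGeom_baseChange hsq q).2,
    nGeom_closed_sep, card_closedFibre_eq]
  refine le_trans ?_ (card_fibre_le g q)
  refine card_components_le_of_meet _ fun w ↦ ?_
  -- the component of `w` meets the fibre over the generic point of the strict henselisation
  haveI : IsLocallyNoetherian (pullback f u) := LocallyOfFiniteType.isLocallyNoetherian g
  obtain ⟨m, hmw, hmmax⟩ : ∃ m, m ⤳ w ∧ ∀ m', m' ⤳ m → m' = m := by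
    let hT := isIrreducible_irreducibleComponent (x := w)
    have hgen := hT.isGenericPoint_genericPoint isClosed_irreducibleComponent
    refine ⟨hT.genericPoint, hgen.specializes mem_irreducibleComponent, fun m' hm' ↦ ?_⟩
    have hle : irreducibleComponent w ⊆ closure {m'} := fun z hz ↦
      specializes_iff_mem_closure.mp (hm'.trans (hgen.specializes hz))
    have heq : closure {m'} = irreducibleComponent w :=
      eq_irreducibleComponent isIrreducible_singleton.closure.2 hle
    exact IsGenericPoint.eq heq hgen
  let x := pullback.fst f u m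
  have hη : f x = genericPoint Y := by
    obtain ⟨Z, hZ, hxZ⟩ : ∃ Z ∈ irreducibleComponents (X : Type u), x ∈ Z :=
      ⟨_, irreducibleComponent_mem_irreducibleComponents x, mem_irreducibleComponent⟩
    have hgenZ := hZ.1.isGenericPoint_genericPoint (isClosed_of_mem_irreducibleComponents Z hZ)
    haveI : Flat (Y.fromSpecStalk y₀) := by
      have hU := isAffineOpen_opensRange (Y.affineCover.f (Y.affineCover.idx y₀))
      rw [← hU.fromSpecStalk_eq_fromSpecStalk (Y.affineCover.covers y₀)]
      delta IsAffineOpen.fromSpecStalk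
      haveI : Flat (Spec.map (Y.presheaf.germ _ y₀ (Y.affineCover.covers y₀))) := by
        rw [HasRingHomProperty.Spec_iff (P := (@Flat : MorphismProperty Scheme.{u}))]
        letI := TopCat.Presheaf.algebra_section_stalk Y.presheaf
          (U := (Y.affineCover.f (Y.affineCover.idx y₀)).opensRange) ⟨y₀, Y.affineCover.covers y₀⟩
        haveI := hU.isLocalization_stalk ⟨y₀, Y.affineCover.covers y₀⟩
        exact RingHom.flat_algebraMap_iff.2
          (IsLocalization.flat _ (hU.primeIdealOf ⟨y₀, Y.affineCover.covers y₀⟩).asIdeal.primeCompl)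
      infer_instance
    haveI : Flat u := inferInstanceAs (Flat (σ ≫ Y.fromSpecStalk y₀))
    haveI : Flat (pullback.fst f u) := MorphismProperty.pullback_fst _ _ inferInstance
    obtain ⟨m', hm', hm'x⟩ := Flat.generalizingMap (pullback.fst f u) (hgenZ.specializes hxZ)
    have hxgen : x = hZ.1.genericPoint := by
      rw [← hm'x, hmmax m' hm']
    have hgen2 : IsGenericPoint (f hZ.1.genericPoint) (Set.univ : Set Y) := by
      show closure _ = _
      rw [← hdom Z hZ, ← (hgenZ.image f.continuous).def]
    rw [hxgen]
    exact hgen2.eq (genericPoint_spec Y)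
  -- a point over the generic point of the base lies over the unique minimal prime
  let p := g m
  have hp : u p = genericPoint Y := by
    rw [← Scheme.Hom.comp_apply, ← hsq.w, Scheme.Hom.comp_apply]; exact hη
  have hmin : p.asIdeal ∈ minimalPrimes S := by
    obtain ⟨P, hP, hPp⟩ := Ideal.exists_minimalPrimes_le (I := (⊥ : Ideal S)) (J := p.asIdeal) bot_le
    let P' : ↥(Spec (CommRingCat.of S)) := (⟨P, hP.1.1⟩ : PrimeSpectrum S)
    have hsp : u P' ⤳ u p := ((PrimeSpectrum.le_iff_specializes P' p).mp hPp).map u.continuous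
    have hu : u P' = u p := by
      rw [hp] at hsp ⊢
      exact (hsp.antisymm (genericPoint_specializes _)).eq
    have hσ : σ P' = σ p := (Y.fromSpecStalk y₀).isEmbedding.injective (by
      rw [← Scheme.Hom.comp_apply, ← Scheme.Hom.comp_apply]; exact hu)
    have hle : p.asIdeal ≤ P := fun z hz ↦ by
      obtain ⟨s, hs, hsz⟩ := Hensel.strictHenselization_unramifiedFibres R S p.asIdeal p.isPrime z hz
      have hc : p.asIdeal.comap (algebraMap R S) = P.comap (algebraMap R S) :=
        congrArg PrimeSpectrum.asIdeal hσ.symm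
      rw [hc] at hsz
      exact (hP.1.1.mem_or_mem (Ideal.map_comap_le hsz)).resolve_left fun h ↦ hs (hPp h)
    rwa [le_antisymm hle hPp]
  have hpq : p ⤳ q := (PrimeSpectrum.le_iff_specializes p q).mp (by
    obtain ⟨P, hP, hPq⟩ := Ideal.exists_minimalPrimes_le (I := (⊥ : Ideal S)) (J := q.asIdeal) bot_le
    show p.asIdeal ≤ q.asIdeal
    rwa [show p.asIdeal = P from congrArg Subtype.val (hsub.elim ⟨_, hmin⟩ ⟨P, hP⟩)])
  have hm : m ∈ connectedComponent w :=
    (isConnected_singleton (x := m)).isPreconnected.closure.subset_connectedComponent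
      (specializes_iff_mem_closure.mp hmw) (subset_closure rfl)
  have hcl : IsClosed (g '' connectedComponent w) := g.isClosedMap _ isClosed_connectedComponent
  obtain ⟨z, hz, hgz⟩ := hpq.mem_closed hcl ⟨m, hm, rfl⟩
  exact ⟨z, hgz, hz⟩

/-- Over a geometrically unibranch point the count can only grow on generisation. -/
theorem nGeom_le_of_geomUnibranch
    (hdom : ∀ Z ∈ irreducibleComponents (X : Type u), closure (f.base '' Z) = Set.univ) (y₀ : Y)
    (hy : CAlg2.IsGeomUnibranch (Y.presheaf.stalk y₀)) (y' : Y) (h' : y' ⤳ y₀) :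
    MoreMor.nGeomConnComp f y₀ ≤ MoreMor.nGeomConnComp f y' := by
  obtain ⟨hloc, hS⟩ := Hensel.exists_strictHenselization (Y.presheaf.stalk y₀)
  exact nGeom_le_strict f hdom y₀ hy y' h'
    (Hensel.Env (Y.presheaf.stalk y₀) (SeparableClosure (ResidueField (Y.presheaf.stalk y₀))))

/-- Lower semicontinuity at a geometrically unibranch point. -/
theorem exists_nhd_le_of_geomUnibranch
    (hdom : ∀ Z ∈ irreducibleComponents (X : Type u), closure (f.base '' Z) = Set.univ) (y₀ : Y)
    (hy : CAlg2.IsGeomUnibranch (Y.presheaf.stalk y₀)) :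
    ∃ V ∈ nhds y₀, ∀ z ∈ V, MoreMor.nGeomConnComp f y₀ ≤ MoreMor.nGeomConnComp f z := by
  obtain ⟨N, hN⟩ := exists_nat_eq f y₀
  exact ⟨_, Unibranch.mem_nhds_of_isLocallyConstructible (isLocallyConstructible_le f N)
    (y := y₀) (fun y' hy' ↦ (hN.symm.trans_le (nGeom_le_of_geomUnibranch f hdom y₀ hy y' hy'))),
    fun z hz ↦ hN.trans_le hz⟩

end Groth.Agent.ZarConn
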