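import Groth.Agent.CohFinite.Proper
import Groth.Agent.CohFinite.AmpleFinite
import Groth.Agent.Devissage.Piece
import Groth.Agent.Hensel.Local

/-!
# Connectedness of the closed fibre of a proper morphism over a henselian local ring
-/

universe u

open CategoryTheory Category Limits Opposite TopologicalSpace AlgebraicGeometry Abelian
open Groth.Agent.SiteCoh Groth.Agent.CohFinite

set_option backward.isDefEq.respectTransparency false
set_option linter.style.haveILetI false

noncomputable section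

namespace Groth.Agent.ZarConn

variable {X : Scheme.{u}}

/-- The function on `X` given by an element of the base ring. -/
abbrev rho (A : Type u) [CommRing A] [X.Over (Spec (CommRingCat.of A))] (a : A) : Γ(X, ⊤) :=
  Coh.toGlobal (X ↘ Spec (CommRingCat.of A)) a

/-- Cohomology in degree zero is given by the sections. -/
def secH (F : Sheaf (Opens.grothendieckTopology X) AddCommGrpCat.{u}) :
    Sheaf.H.{u} F 0 ≃+ F.obj.obj (op (⊤ : Opens X)) :=
  (huTerminalEquiv (Opens.grothendieckTopology X) (T := (⊤ : Opens X)) isTerminalTop F 0).trans (hu0 F (⊤ : Opens X))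

lemma secH_natural {F G : Sheaf (Opens.grothendieckTopology X) AddCommGrpCat.{u}} (φ : F ⟶ G) (x : Sheaf.H.{u} F 0) :
    secH G (Sheaf.H.map φ 0 x) = φ.hom.app (op ⊤) (secH F x) := by
  change hu0 G (⊤ : Opens X) (huTerminalEquiv (Opens.grothendieckTopology X) isTerminalTop G 0 (Sheaf.H.map φ 0 x)) = _
  rw [ProjCech.huTerminalEquiv_natural, hu0_natural]
  rfl

/-- A section killed by the quotient map comes from the subsheaf. -/
lemma exists_preimage_section {S : ShortComplex (Sheaf (Opens.grothendieckTopology X) AddCommGrpCat.{u})}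
    (hS : S.ShortExact) (U : Opens X) (v : S.X₂.obj.obj (op U)) (hv : S.g.hom.app (op U) v = 0) :
    ∃ w, S.f.hom.app (op U) w = v := by
  have := hS.mono_f
  let φ := (secEquiv U S.X₂).symm v
  have hφ : φ ≫ S.g = 0 := (secEquiv U S.X₃).injective (by
    rw [secEquiv_comp, map_zero, AddEquiv.apply_symm_apply, hv])
  obtain ⟨l, hl⟩ := KernelFork.IsLimit.lift' hS.fIsKernel φ hφ
  refine ⟨secEquiv U S.X₁ l, ?_⟩
  rw [← secEquiv_comp, show l ≫ S.f = φ from hl, AddEquiv.apply_symm_apply]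

variable (X) in
/-- The structure sheaf as a sheaf of abelian groups. -/
abbrev str : Sheaf (Opens.grothendieckTopology X) AddCommGrpCat.{u} := Coh.toAb (Coh.structureModule X)

/-- The sequence of multiplication by a global function. -/
abbrev mulSeq (r : Coh.Γtop X) : ShortComplex (Sheaf (Opens.grothendieckTopology X) AddCommGrpCat.{u}) :=
  ShortComplex.mk (Coh.smulAb (Coh.structureModule X) r) (cokernel.π (Coh.smulAb (Coh.structureModule X) r))
    (cokernel.condition _)

lemma mulSeq_shortExact (r : Coh.Γtop X) [Mono (Coh.smulAb (Coh.structureModule X) r)] :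
    (mulSeq r).ShortExact :=
  { exact := ShortComplex.exact_of_g_is_cokernel _ (cokernelIsCokernel _) }

/-- The map from the sequence of a multiple. -/
def mulSeqMap (r s : Coh.Γtop X) : mulSeq (r * s) ⟶ mulSeq r :=
  ShortComplex.homMk (Coh.smulAb _ s) (𝟙 _)
    (cokernel.desc _ (cokernel.π _) (by rw [Coh.smulAb_mul, assoc, cokernel.condition, comp_zero]))
    (by simp [Coh.smulAb_mul]) (by simp)

lemma mono_smulAb_pow (r : Coh.Γtop X) [Mono (Coh.smulAb (Coh.structureModule X) r)] (n : ℕ) :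
    Mono (Coh.smulAb (Coh.structureModule X) (r ^ n)) := by
  induction n with
  | zero => rw [pow_zero, Coh.smulAb_one]; infer_instance
  | succ n ih => rw [pow_succ, Coh.smulAb_mul]; infer_instance

/-- Two opens covering `X` with `r` invertible on the intersection glue `1` and `0` modulo a power of `r`. -/
lemma exists_section_mod (r : Γ(X, ⊤)) (U₁ U₂ : X.Opens) (hcov : U₁ ⊔ U₂ = ⊤)
    (hW : U₁ ⊓ U₂ ≤ X.basicOpen r) :
    ∃ s : (mulSeq (X := X) r).X₃.obj.obj (op (⊤ : Opens X)),
      (mulSeq (X := X) r).X₃.obj.map (homOfLE (le_top : U₁ ≤ ⊤)).op s =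
        (mulSeq (X := X) r).g.hom.app (op U₁) (show Γ(X, U₁) from 1) ∧
      (mulSeq (X := X) r).X₃.obj.map (homOfLE (le_top : U₂ ≤ ⊤)).op s = 0 := by
  let Q : TopCat.Sheaf AddCommGrpCat.{u} (X : TopCat.{u}) := (mulSeq (X := X) r).X₃
  let q := (mulSeq (X := X) r).g
  let U : ULift.{u} Bool → Opens X := fun b => if b.down then U₁ else U₂
  let sf : ∀ b, ToType (Q.1.obj (op (U b))) := fun b => if b.down then q.hom.app (op (U b)) (show Γ(X, U b) from 1) else 0
  have hzero : ∀ (V : Opens X), V ≤ U₁ ⊓ U₂ → q.hom.app (op V) (show Γ(X, V) from 1) = 0 := fun V hV => by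
    have hu : IsUnit (X.presheaf.map (homOfLE (le_top : V ≤ ⊤)).op r) := by
      have h1 := X.toRingedSpace.isUnit_res_basicOpen r
      have h2 := h1.map (X.presheaf.map (homOfLE (hV.trans hW)).op).hom
      rw [show (homOfLE (le_top : V ≤ ⊤)).op = (homOfLE (X.basicOpen_le r)).op ≫ (homOfLE (hV.trans hW)).op from rfl,
        X.presheaf.map_comp]
      exact h2
    obtain ⟨w, hw⟩ := hu.exists_right_inv
    have h3 := congrArg (fun φ => φ.hom.app (op V) (show Γ(X, V) from w)) (mulSeq (X := X) r).zero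
    refine Eq.trans ?_ h3
    refine congrArg (q.hom.app (op V)) ?_
    exact hw.symm
  have hcompat : TopCat.Presheaf.IsCompatible Q.1 U sf := by
    rintro ⟨b⟩ ⟨b'⟩
    cases b <;> cases b'
    · simp [sf]
    · simp only [sf, U, Bool.false_eq_true, ↓reduceIte, map_zero]
      symm
      refine ((NatTrans.naturality_apply q.hom (Opens.infLERight (U ⟨false⟩) (U ⟨true⟩)).op _).symm).trans ?_
      exact (congrArg (q.hom.app _) (map_one (X.presheaf.map _).hom)).trans (hzero _ (by simp [U, inf_comm]))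
    · simp only [sf, U, Bool.false_eq_true, ↓reduceIte, map_zero]
      refine ((NatTrans.naturality_apply q.hom (Opens.infLELeft (U ⟨true⟩) (U ⟨false⟩)).op _).symm).trans ?_
      exact (congrArg (q.hom.app _) (map_one (X.presheaf.map _).hom)).trans (hzero _ (by simp [U]))
    · rfl
  obtain ⟨s, hs, -⟩ := Q.existsUnique_gluing' U ⊤ (fun b => homOfLE le_top) (by
    rw [← hcov]
    exact sup_le ((le_iSup U ⟨true⟩).trans_eq' (by simp [U])) ((le_iSup U ⟨false⟩).trans_eq' (by simp [U]))) sf hcompat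
  exact ⟨s, hs ⟨true⟩, hs ⟨false⟩⟩

/-- Sections agreeing on a two-element cover are equal. -/
lemma section_ext (F : Sheaf (Opens.grothendieckTopology X) AddCommGrpCat.{u}) (U₁ U₂ : X.Opens) (hcov : U₁ ⊔ U₂ = ⊤)
    (s t : F.obj.obj (op (⊤ : Opens X)))
    (h₁ : F.obj.map (homOfLE (le_top : U₁ ≤ ⊤)).op s = F.obj.map (homOfLE (le_top : U₁ ≤ ⊤)).op t)
    (h₂ : F.obj.map (homOfLE (le_top : U₂ ≤ ⊤)).op s = F.obj.map (homOfLE (le_top : U₂ ≤ ⊤)).op t) : s = t := by
  let U : ULift.{u} Bool → Opens X := fun b => if b.down then U₁ else U₂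
  refine TopCat.Sheaf.eq_of_locally_eq' (C := AddCommGrpCat.{u}) F U ⊤ (fun b => homOfLE le_top) (by
    rw [← hcov]
    exact sup_le ((le_iSup U ⟨true⟩).trans_eq' (by simp [U])) ((le_iSup U ⟨false⟩).trans_eq' (by simp [U]))) s t ?_
  rintro ⟨b⟩
  cases b
  · exact h₂
  · exact h₁

/-- Global functions separate a clopen partition of the zero locus of `r`, modulo `r`. -/
theorem exists_global_separating (A : Type u) [CommRing A] [IsNoetherianRing A] [X.Over (Spec (CommRingCat.of A))]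
    [IsProper (X ↘ Spec (CommRingCat.of A))] (a : A)
    [Mono (Coh.smulAb (Coh.structureModule X) (Coh.toGlobal (X ↘ Spec (CommRingCat.of A)) a))]
    (U₁ U₂ : X.Opens) (hcov : U₁ ⊔ U₂ = ⊤)
    (hW : U₁ ⊓ U₂ ≤ X.basicOpen (rho A a)) :
    ∃ g : Γ(X, ⊤),
      (∃ w : Γ(X, U₁), X.presheaf.map (homOfLE (le_top : U₁ ≤ ⊤)).op g - 1 =
        X.presheaf.map (homOfLE (le_top : U₁ ≤ ⊤)).op (rho A a) * w) ∧
      (∃ w : Γ(X, U₂), X.presheaf.map (homOfLE (le_top : U₂ ≤ ⊤)).op g =
        X.presheaf.map (homOfLE (le_top : U₂ ≤ ⊤)).op (rho A a) * w) := by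
  let γ := Coh.toGlobal (X ↘ Spec (CommRingCat.of A))
  let M := Coh.structureModule X
  haveI := CohFinite.finite_proper A X M (Devissage.isCoh_unit X) 1
  let H := Coh.HH X M 1
  let ψ : ℕ → H →ₗ[A] H := fun n => LinearMap.lsmul A H (a ^ n)
  obtain ⟨N, hN⟩ := monotone_stabilizes_iff_noetherian.mpr (isNoetherian_of_isNoetherianRing_of_finite A H)
    ⟨fun n => LinearMap.ker (ψ n), monotone_nat_of_le_succ fun n x hx => by
      simp only [ψ, LinearMap.mem_ker, LinearMap.lsmul_apply] at hx ⊢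
      rw [pow_succ', mul_smul, hx, smul_zero]⟩
  let r := γ a
  haveI := fun n => mono_smulAb_pow r n
  have hW' : ∀ n, 0 < n → U₁ ⊓ U₂ ≤ X.basicOpen ((rho A a : Γ(X, ⊤)) ^ n) := fun n hn =>
    hW.trans (X.toRingedSpace.basicOpen_pow (rho A a) n hn).ge
  have hexs : ∃ s : (mulSeq (X := X) r).X₃.obj.obj (op (⊤ : Opens X)),
      (mulSeq (X := X) r).X₃.obj.map (homOfLE (le_top : U₁ ≤ ⊤)).op s =
        (mulSeq (X := X) r).g.hom.app (op U₁) (show Γ(X, U₁) from 1) ∧
      (mulSeq (X := X) r).X₃.obj.map (homOfLE (le_top : U₂ ≤ ⊤)).op s = 0 :=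
    exists_section_mod r U₁ U₂ hcov hW
  obtain ⟨s, hs₁, hs₂⟩ := hexs
  obtain ⟨t, ht₁, ht₂⟩ := exists_section_mod (X := X) (r ^ (1 + N)) U₁ U₂ hcov (hW' _ (by omega))
  -- the two sections are compatible
  let φ : mulSeq (r ^ (1 + N)) ⟶ mulSeq r := ShortComplex.homMk (Coh.smulAb M (r ^ N)) (𝟙 _)
    (cokernel.desc _ (cokernel.π _) (by
      rw [pow_add, pow_one, Coh.smulAb_mul, assoc, cokernel.condition, comp_zero]))
    (by dsimp; rw [pow_add, pow_one, comp_id]; exact (Coh.smulAb_mul _ _ _).symm) (by simp)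
  have hts : φ.τ₃.hom.app (op (⊤ : Opens X)) t = s := by
    refine section_ext _ U₁ U₂ hcov _ _ ?_ ?_
    · rw [← NatTrans.naturality_apply, ht₁, hs₁]
      exact (congr($(φ.comm₂₃).hom.app (op U₁) (show Γ(X, U₁) from 1))).symm
    · rw [← NatTrans.naturality_apply, ht₂, hs₂, map_zero]
  have hSE := mulSeq_shortExact r
  have hTE := mulSeq_shortExact (r ^ (1 + N))
  let y := (secH _).symm t
  have hy : Sheaf.H.map φ.τ₃ 0 y = (secH _).symm s := (secH _).injective (by
    rw [secH_natural, AddEquiv.apply_symm_apply, AddEquiv.apply_symm_apply, hts])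
  -- the obstruction vanishes
  let h : H := CohFinite.δH hTE 0 y
  have h1 : a ^ (1 + N) • h = 0 := by
    show Sheaf.H.map (Coh.smulAb M (γ (a ^ (1 + N)))) 1 h = 0
    rw [map_pow]
    exact (CohFinite.map_f_eq_zero_iff hTE 0 h).mpr ⟨y, rfl⟩
  have h2 : a ^ N • h = 0 := by
    have : h ∈ LinearMap.ker (ψ (1 + N)) := h1
    have e : LinearMap.ker (ψ N) = LinearMap.ker (ψ (1 + N)) := hN (1 + N) (by omega)
    rw [← e] at this
    exact this
  have h3 : CohFinite.δH hSE 0 ((secH _).symm s) = 0 := by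
    rw [← hy, CohFinite.δH_natural hTE hSE φ]
    have : Sheaf.H.map (Coh.smulAb M (γ (a ^ N))) 1 h = 0 := h2
    rw [map_pow] at this
    exact this
  obtain ⟨g₀, hg₀⟩ := (CohFinite.δH_eq_zero_iff hSE 0 _).mp h3
  let g : Γ(X, ⊤) := secH (str X) g₀
  have hg : (mulSeq r).g.hom.app (op (⊤ : Opens X)) g = s := by
    have := congrArg (secH (mulSeq r).X₃) hg₀
    rwa [secH_natural, AddEquiv.apply_symm_apply] at this
  refine ⟨g, ?_, ?_⟩
  · obtain ⟨w, hw⟩ := exists_preimage_section hSE U₁ (X.presheaf.map (homOfLE (le_top : U₁ ≤ ⊤)).op g - (show Γ(X, U₁) from 1)) (by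
      rw [map_sub, sub_eq_zero, ← hs₁, ← hg]
      exact NatTrans.naturality_apply (mulSeq r).g.hom (homOfLE (le_top : U₁ ≤ ⊤)).op g)
    exact ⟨w, hw.symm⟩
  · obtain ⟨w, hw⟩ := exists_preimage_section hSE U₂ (X.presheaf.map (homOfLE (le_top : U₂ ≤ ⊤)).op g) (by
      rw [← hs₂, ← hg]
      exact NatTrans.naturality_apply (mulSeq r).g.hom (homOfLE (le_top : U₂ ≤ ⊤)).op g)
    exact ⟨w, hw.symm⟩

end Groth.Agent.ZarConn
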