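import Groth.Agent.ZarConn.Count
import Groth.Agent.ZarConn.FieldLevel
import Groth.Agent.CompleteDvr.Exists
import Groth.Agent.DvrDom.Basic
import Groth.Agent.Hensel.Local
import Groth.Agent.GoingDown.AtPoint
import Groth.Agent.GeomRedSpread.Constructible
import Groth.Agent.Unibranch.LiftDim

/-!
# The geometric number of connected components along a complete discrete valuation ring
-/

universe u

open CategoryTheory Limits AlgebraicGeometry IsLocalRing TopologicalSpace

set_option backward.isDefEq.respectTransparency false
set_option linter.style.haveILetI false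
set_option linter.unusedSectionVars false
set_option linter.overlappingInstances false

noncomputable section

namespace Groth.Agent.ZarConn

variable {A : Type u} [CommRing A] [IsDomain A] [IsDiscreteValuationRing A]
  {X : Scheme.{u}} (f : X ⟶ Spec (CommRingCat.of A))

lemma gpt_specializes (t : ↥(Spec (CommRingCat.of A))) : gpt A ⤳ t :=
  (PrimeSpectrum.le_iff_specializes (gpt A) t).mp (bot_le : (⊥ : Ideal A) ≤ _)

lemma lift_of_open [LocallyOfFiniteType f]
    (hopen : ∀ x, f x = cpt A → EGA43.IsUnivOpenAt f x) (x : X) (hx : f x = cpt A) :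
    ∃ ζ, ζ ⤳ x ∧ f ζ = gpt A :=
  Unibranch.exists_specializes_of_isOpenAt f (Unibranch.isOpenAt_of_isUnivOpenAt f x (hopen x hx))
    (gpt_specializes _)

lemma isReduced_of_geometricallyReduced {k : Type u} [Field k] {P : Scheme.{u}} (p : P ⟶ Spec (CommRingCat.of k))
    (h : GeometricallyReduced p) : AlgebraicGeometry.IsReduced P :=
  h.geometrically_isReduced (𝟙 _) (𝟙 P) p (IsPullback.of_horiz_isIso ⟨by simp⟩)

lemma range_gpt {K : Type u} [Field K] [Algebra A K] (hinj : Function.Injective (algebraMap A K)) :
    ∀ t, Spec.map (CommRingCat.ofHom (algebraMap A K)) t = gpt A := fun t ↦ by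
  refine PrimeSpectrum.ext ?_
  show t.asIdeal.comap (algebraMap A K) = ⊥
  rw [(Ideal.eq_bot_or_top t.asIdeal).resolve_right t.isPrime.ne_top, ← RingHom.ker_eq_comap_bot,
    (RingHom.injective_iff_ker_eq_bot _).mp hinj]

/-- The components over the fraction field of a complete DVR with algebraically closed residue field. -/
theorem card_fraction_level [IsAdicComplete (maximalIdeal A) A] [HenselianLocalRing A]
    [IsAlgClosed (ResidueField A)] [IsProper f]
    (hopen : ∀ x, f x = cpt A → EGA43.IsUnivOpenAt f x)
    (hred : GeometricallyReduced (f.fiberToSpecResidueField (cpt A)))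
    (F : Type u) [Field F] [Algebra A F] (K : Type u) [Field K] [Algebra A K] [IsFractionRing A K]
    [Algebra K F] [IsScalarTower A K F] [FiniteDimensional K F] :
    ENat.card (_root_.ConnectedComponents ↥(pullback f (Spec.map (CommRingCat.ofHom (algebraMap A F))))) =
      MoreMor.nGeomConnComp f (cpt A) := by
  classical
  have hinj : Function.Injective (algebraMap A F) := by
    rw [IsScalarTower.algebraMap_eq A K F]
    exact (algebraMap K F).injective.comp (IsFractionRing.injective A K)
  haveI : FaithfulSMul A F := (faithfulSMul_iff_algebraMap_injective A F).mpr hinj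
  obtain ⟨b⟩ : Nonempty (Module.Basis (Fin (Module.finrank K F)) K F) := ⟨Module.finBasis K F⟩
  have hcl : Subfield.closure (Set.range (algebraMap A F) ∪ Set.range b) = ⊤ := by
    refine eq_top_iff.mpr fun z _ ↦ ?_
    rw [← b.sum_repr z]
    refine sum_mem fun i _ ↦ ?_
    rw [Algebra.smul_def]
    refine mul_mem ?_ (Subfield.subset_closure (Or.inr ⟨i, rfl⟩))
    obtain ⟨c, d, -, hcd⟩ := IsFractionRing.div_surjective A (b.repr z i)
    rw [← hcd, map_div₀, ← IsScalarTower.algebraMap_apply, ← IsScalarTower.algebraMap_apply]
    exact div_mem (Subfield.subset_closure (Or.inl ⟨c, rfl⟩)) (Subfield.subset_closure (Or.inl ⟨d, rfl⟩))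
  obtain ⟨R, hR, hmem, hm⟩ := DvrDom.exists_dvr_dominating_of_fg A (IsDiscreteValuationRing.not_isField A) F
    (Set.range b) (Set.finite_range _) hcl
  let φ : A →+* R := (algebraMap A F).codRestrict R.toSubring hmem
  haveI hloc : IsLocalHom φ := ⟨fun a ha ↦ by
    by_contra hu
    have h1 := hm a ((IsLocalRing.mem_maximalIdeal a).mpr hu)
    exact (ne_of_lt h1) ((R.valuation_unit ha.unit) ▸ rfl)⟩
  letI : Algebra (FractionRing A) F := (IsFractionRing.lift hinj).toAlgebra
  haveI : IsScalarTower A (FractionRing A) F :=
    IsScalarTower.of_algebraMap_eq fun a ↦ (IsFractionRing.lift_algebraMap hinj a).symm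
  haveI : Algebra.IsAlgebraic (FractionRing A) F := by
    haveI : Algebra.IsAlgebraic A F :=
      (IsFractionRing.comap_isAlgebraic_iff (A := A) (K := K) (C := F)).mpr inferInstance
    exact (IsFractionRing.comap_isAlgebraic_iff (A := A) (K := FractionRing A) (C := F)).mp inferInstance
  have hres := CompleteDvr.residue_surjective_of_isAlgClosed (L := F) φ (fun _ ↦ rfl)
  have hφinj : Function.Injective φ := fun p q h ↦ hinj (congrArg Subtype.val h)
  have hfin := CompleteDvr.finite_of_residue_surjective φ hφinj hres
  haveI : IsAlgClosed (ResidueField R) :=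
    IsAlgClosed.of_ringEquiv (ResidueField A) _
      (RingEquiv.ofBijective (ResidueField.map φ) ⟨RingHom.injective _, hres⟩)
  haveI : HenselianLocalRing R := by
    letI := φ.toAlgebra
    haveI : Module.Finite A R := hfin
    exact Hensel.henselianLocalRing_finite A R
  -- the base change
  let u₀ : Spec (CommRingCat.of R) ⟶ Spec (CommRingCat.of A) := Spec.map (CommRingCat.ofHom φ)
  let fR := pullback.snd f u₀
  have hsq : IsPullback (pullback.fst f u₀) fR f u₀ := IsPullback.of_hasPullback f u₀
  have huc : u₀ (cpt R) = cpt A := IsLocalRing.comap_closedPoint φ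
  have hopenR : ∀ x, fR x = cpt R → EGA43.IsUnivOpenAt fR x := fun x hx ↦
    GoingDown.isUnivOpenAt_of_isPullback hsq (hopen _ (by
      rw [← Scheme.Hom.comp_apply, hsq.w, Scheme.Hom.comp_apply, hx, huc]))
  have hredR : AlgebraicGeometry.IsReduced (fR.fiber (cpt R)) :=
    isReduced_of_geometricallyReduced (k := (Spec (CommRingCat.of R)).residueField (cpt R))
      (fR.fiberToSpecResidueField (cpt R))
      ((GeomRedSpread.fiber_baseChange_iff hsq (cpt R)).mpr (huc.symm ▸ hred))
  have hliftR := lift_of_open fR hopenR
  have h1 := card_closed_eq_components fR hliftR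
  have h2 := card_generic_fibre fR hliftR hredR
  rw [← huc, ← (GeomFib.nGeom_baseChange hsq (cpt R)).2, h1, ← h2]
  -- the generic fibre
  let v : Spec (CommRingCat.of F) ⟶ Spec (CommRingCat.of R) := Spec.map (CommRingCat.ofHom (algebraMap R F))
  haveI : IsPreimmersion v := IsPreimmersion.of_isLocalization (nonZeroDivisors R)
  have hv : Set.range v = {gpt R} := Set.eq_singleton_iff_nonempty_unique_mem.mpr
    ⟨⟨_, ⟨closedPoint F, rfl⟩⟩, by rintro _ ⟨t, rfl⟩; exact range_gpt (IsFractionRing.injective R F) t⟩
  rw [← card_pullback_point fR v (gpt R) hv]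
  have hc : v ≫ u₀ = Spec.map (CommRingCat.ofHom (algebraMap A F)) := by
    rw [← Spec.map_comp]
    rfl
  exact (GeomFib.card_connectedComponents_congr
    ((pullbackLeftPullbackSndIso f u₀ v) ≪≫ pullback.congrHom rfl hc).hom.homeomorph).symm

/-- Over a complete DVR with algebraically closed residue field the count is constant. -/
theorem nGeom_eq [IsAdicComplete (maximalIdeal A) A] [HenselianLocalRing A]
    [IsAlgClosed (ResidueField A)] [IsProper f]
    (hopen : ∀ x, f x = cpt A → EGA43.IsUnivOpenAt f x)
    (hred : GeometricallyReduced (f.fiberToSpecResidueField (cpt A))) :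
    MoreMor.nGeomConnComp f (gpt A) = MoreMor.nGeomConnComp f (cpt A) := by
  refine le_antisymm ?_ (nGeom_le f (lift_of_open f hopen))
  let K := FractionRing A
  let g : Spec (CommRingCat.of K) ⟶ Spec (CommRingCat.of A) := Spec.map (CommRingCat.ofHom (algebraMap A K))
  let P := pullback f g
  haveI : CompactSpace P := QuasiCompact.compactSpace_of_compactSpace (pullback.snd f g)
  obtain ⟨F, hF, hle⟩ := exists_finite_field_count (pullback.snd f g)
  let L := AlgebraicClosure K
  let v : Spec (CommRingCat.of L) ⟶ Spec (CommRingCat.of A) := CompSurj.w (k := K) L ≫ g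
  have hv : v (closedPoint L) = gpt A := by
    rw [Scheme.Hom.comp_apply]
    exact range_gpt (IsFractionRing.injective A K) _
  rw [(GeomFib.nGeom_eq f v (gpt A) hv).2,
    ← GeomFib.card_connectedComponents_congr (pullbackLeftPullbackSndIso f g (CompSurj.w (k := K) L)).hom.homeomorph]
  refine hle.trans (le_of_eq ?_)
  haveI := hF
  rw [← card_fraction_level f hopen hred F K]
  refine GeomFib.card_connectedComponents_congr
    ((pullbackLeftPullbackSndIso f g (CompSurj.w (k := K) F)) ≪≫ pullback.congrHom rfl ?_).hom.homeomorph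
  rw [← Spec.map_comp, ← CommRingCat.ofHom_comp, ← IsScalarTower.algebraMap_eq]

end Groth.Agent.ZarConn
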