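import Groth.Agent.ZarConn.Fibre
import Groth.Agent.DvrDom.ClosedProper
import Groth.Agent.ConsEngine.ClosureFibre
import Groth.Agent.ConsEngine.Range
import Groth.Agent.ConsTop.Basic

/-!
# Zariski connectedness over noetherian henselian local rings

Every open and closed subset of the closed fibre of a proper scheme over a noetherian henselian local ring
is the trace of an open and closed subset of the scheme.
-/

universe u

open CategoryTheory Category Limits Opposite TopologicalSpace AlgebraicGeometry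

set_option backward.isDefEq.respectTransparency false
set_option linter.style.haveILetI false
set_option linter.overlappingInstances false

noncomputable section

namespace Groth.Agent.ZarConn

/-- A partition of the zero locus of a non-zero-divisor is followed on the closed fibre by a clopen subset. -/
theorem exists_clopen_of_zeroLocus {X : Scheme.{u}} (A : Type u) [CommRing A] [X.Over (Spec (CommRingCat.of A))]
    [IsNoetherianRing A] [IsProper (X ↘ Spec (CommRingCat.of A))] [HenselianLocalRing A] (a : A)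
    [Mono (Coh.smulAb (Coh.structureModule X) (Coh.toGlobal (X ↘ Spec (CommRingCat.of A)) a))]
    (ha : a ∈ IsLocalRing.maximalIdeal A)
    (D₁ D₂ : Set X) (h₁ : IsClosed D₁) (h₂ : IsClosed D₂) (hdisj : Disjoint D₁ D₂)
    (hcov : ∀ x : X, x ∉ X.basicOpen (rho A a) → x ∈ D₁ ∪ D₂) :
    ∃ V : Set X, IsClopen V ∧ ∀ x : X, (X ↘ Spec (CommRingCat.of A)) x = IsLocalRing.closedPoint A →
      (x ∈ D₁ → x ∈ V) ∧ (x ∈ D₂ → x ∉ V) := by
  classical
  let f := X ↘ Spec (CommRingCat.of A)
  let U₁ : X.Opens := ⟨D₂ᶜ, h₂.isOpen_compl⟩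
  let U₂ : X.Opens := ⟨D₁ᶜ, h₁.isOpen_compl⟩
  have hcov' : U₁ ⊔ U₂ = ⊤ := by
    refine Opens.ext (Set.eq_univ_of_forall fun x ↦ ?_)
    by_cases h : x ∈ D₂
    · exact Or.inr (hdisj.notMem_of_mem_right h)
    · exact Or.inl h
  have hW : U₁ ⊓ U₂ ≤ X.basicOpen (rho A a) := fun x hx ↦ by
    by_contra h
    exact (hcov x h).elim hx.2 hx.1
  obtain ⟨g, ⟨w₁, hw₁⟩, ⟨w₂, hw₂⟩⟩ := exists_global_separating A a U₁ U₂ hcov' hW
  let ev : ∀ x : X, Γ(X, ⊤) →+* X.residueField x := fun x ↦ (X.evaluation ⊤ x trivial).hom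
  have hev : ∀ (x : X) (s : Γ(X, ⊤)), ev x s ≠ 0 ↔ x ∈ X.basicOpen s := fun x s ↦
    X.evaluation_ne_zero_iff_mem_basicOpen (U := ⊤) x trivial s
  have hm : ∀ x : X, f x = IsLocalRing.closedPoint A → ∀ b ∈ IsLocalRing.maximalIdeal A, ev x (rho A b) = 0 := by
    intro x hx b hb
    by_contra hne
    have := (mem_basicOpen_rho A b x).mp ((hev x _).mp hne)
    rw [hx] at this
    exact this hb
  have hres : ∀ (U : X.Opens) (x : X) (hx : x ∈ U) (s : Γ(X, ⊤)),
      (X.evaluation U x hx).hom (X.presheaf.map (homOfLE (le_top : U ≤ ⊤)).op s) = ev x s := by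
    intro U x hx s
    show X.residue x (X.presheaf.germ U x hx (X.presheaf.map (homOfLE (le_top : U ≤ ⊤)).op s)) = _
    rw [TopCat.Presheaf.germ_res_apply]
    rfl
  have hg₁ : ∀ x : X, f x = IsLocalRing.closedPoint A → x ∈ D₁ → ev x g = 1 := fun x hx hxD ↦ by
    have := congrArg (X.evaluation U₁ x (hdisj.notMem_of_mem_left hxD)).hom hw₁
    rw [map_sub, map_mul, hres, hres, map_one, hm x hx a ha, zero_mul, sub_eq_zero] at this
    exact this
  have hg₂ : ∀ x : X, f x = IsLocalRing.closedPoint A → x ∈ D₂ → ev x g = 0 := fun x hx hxD ↦ by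
    have := congrArg (X.evaluation U₂ x (hdisj.notMem_of_mem_right hxD)).hom hw₂
    rwa [map_mul, hres, hres, hm x hx a ha, zero_mul] at this
  -- the global functions form a product of local rings
  let φ : A →+* Γ(X, ⊤) := rhoHom A
  letI := φ.toAlgebra
  haveI : Module.Finite A Γ(X, ⊤) := finite_global A
  obtain ⟨ι, _, e, he, hloc⟩ := Hensel.exists_pi_local A Γ(X, ⊤)
  have hone : ∀ (x : X) (i : ι), ev x (e i) ≠ 0 → ev x (e i) = 1 := by
    intro x i hx
    have := congrArg (ev x) (he.idem i).eq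
    rwa [map_mul, mul_eq_left₀ hx] at this
  have hsum : ∀ x : X, ∃ i, ev x (e i) ≠ 0 := by
    intro x
    by_contra h
    push Not at h
    have := congrArg (ev x) he.complete
    rw [map_sum, map_one, Finset.sum_eq_zero (fun i _ ↦ h i)] at this
    exact zero_ne_one this
  -- in one factor all the points of the closed fibre have the same value of `g`
  have hsame : ∀ x y : X, f x = IsLocalRing.closedPoint A → f y = IsLocalRing.closedPoint A →
      ∀ i, ev x (e i) ≠ 0 → ev y (e i) ≠ 0 → (ev x g = 0 ↔ ev y g = 0) := by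
    intro x y hx hy i hxi hyi
    haveI := hloc i
    let J : Ideal Γ(X, ⊤) := Ideal.span {1 - e i}
    have hJ : ∀ x : X, f x = IsLocalRing.closedPoint A → ev x (e i) ≠ 0 →
        RingHom.ker (ev x) = (IsLocalRing.maximalIdeal (Γ(X, ⊤) ⧸ J)).comap (Ideal.Quotient.mk J) := by
      intro x hx hne
      haveI : (RingHom.ker (ev x)).IsPrime := RingHom.ker_isPrime (ev x)
      have hmax : (RingHom.ker (ev x)).IsMaximal := by
        refine Ideal.isMaximal_of_isIntegral_of_isMaximal_comap (R := A) (RingHom.ker (ev x)) ?_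
        have hle : IsLocalRing.maximalIdeal A ≤ (RingHom.ker (ev x)).comap (algebraMap A Γ(X, ⊤)) :=
          fun b hb ↦ hm x hx b hb
        rw [← (IsLocalRing.maximalIdeal.isMaximal A).eq_of_le (Ideal.IsPrime.ne_top inferInstance) hle]
        exact IsLocalRing.maximalIdeal.isMaximal A
      refine hmax.eq_of_le (Ideal.comap_ne_top _ (IsLocalRing.maximalIdeal.isMaximal _).ne_top) fun s hs ↦ ?_
      refine (IsLocalRing.mem_maximalIdeal _).mpr fun hu ↦ ?_
      obtain ⟨t, ht⟩ := hu.exists_right_inv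
      obtain ⟨t, rfl⟩ := Ideal.Quotient.mk_surjective t
      rw [← map_mul, ← map_one (Ideal.Quotient.mk J), Ideal.Quotient.eq, Ideal.mem_span_singleton'] at ht
      obtain ⟨r, hr⟩ := ht
      have h0 := congrArg (ev x) hr
      rw [map_mul, map_sub, map_one, hone x i hne, sub_self, mul_zero, map_sub, map_mul, map_one,
        (show ev x s = 0 from hs), zero_mul, zero_sub] at h0
      exact one_ne_zero (neg_eq_zero.mp h0.symm)
    have h : RingHom.ker (ev x) = RingHom.ker (ev y) := (hJ x hx hxi).trans (hJ y hy hyi).symm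
    exact Ideal.ext_iff.mp h g
  let V : Set X := ⋃ i ∈ {i | ∃ x, f x = IsLocalRing.closedPoint A ∧ x ∈ D₁ ∧ ev x (e i) ≠ 0},
    (X.basicOpen (e i) : Set X)
  have hcl : ∀ i, IsClopen (X.basicOpen (e i) : Set X) := fun i ↦ by
    refine ⟨?_, (X.basicOpen (e i)).2⟩
    have : ((X.basicOpen (e i) : Set X))ᶜ = X.basicOpen (1 - e i) := by
      ext x
      simp only [Set.mem_compl_iff, SetLike.mem_coe, ← hev]
      constructor
      · intro h
        rw [not_not] at h
        rw [map_sub, map_one, h, sub_zero]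
        exact one_ne_zero
      · intro h h'
        exact h (by rw [map_sub, map_one, hone x i h', sub_self])
    exact isOpen_compl_iff.mp (this ▸ (X.basicOpen (1 - e i)).2)
  refine ⟨V, (Set.toFinite _).isClopen_biUnion fun i _ ↦ hcl i, fun x hx ↦ ⟨fun hxD ↦ ?_, fun hxD hxV ↦ ?_⟩⟩
  · obtain ⟨i, hi⟩ := hsum x
    exact Set.mem_biUnion (show i ∈ {i | ∃ x, _} from ⟨x, hx, hxD, hi⟩) ((hev x _).mp hi)
  · obtain ⟨i, ⟨y, hy, hyD, hyi⟩, hxi⟩ := Set.mem_iUnion₂.mp hxV
    have h := (hsame x y hx hy i ((hev x _).mpr hxi) hyi).mp (hg₂ x hx hxD)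
    rw [hg₁ y hy hyD] at h
    exact one_ne_zero h

variable {A : Type u} [CommRing A] [IsLocalRing A]

/-- Every nonempty closed subset meets the closed fibre. -/
lemma exists_mem_closedFibre {X : Scheme.{u}} (f : X ⟶ Spec (CommRingCat.of A)) [UniversallyClosed f]
    (Z : Set X) (hZ : IsClosed Z) (hne : Z.Nonempty) : ∃ x ∈ Z, f x = IsLocalRing.closedPoint A := by
  obtain ⟨z, hz⟩ := hne
  have : IsLocalRing.closedPoint A ∈ f '' Z :=
    (IsLocalRing.specializes_closedPoint (R := A) (f z)).mem_closed (f.isClosedMap Z hZ) ⟨z, hz, rfl⟩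
  exact this

/-- Zariski connectedness: clopen subsets of the closed fibre extend. -/
theorem exists_clopen_extension [IsNoetherianRing A] [HenselianLocalRing A] :
    ∀ {X : Scheme.{u}} (f : X ⟶ Spec (CommRingCat.of A)) [IsProper f] (C₁ C₂ : Set X), IsClosed C₁ → IsClosed C₂ →
      Disjoint C₁ C₂ → (∀ x : X, f x = IsLocalRing.closedPoint A ↔ x ∈ C₁ ∪ C₂) →
      ∃ V : Set X, IsClopen V ∧ C₁ ⊆ V ∧ Disjoint C₂ V := by
  suffices key : ∀ (I : Ideal A) {X : Scheme.{u}} (f : X ⟶ Spec (CommRingCat.of A)) [IsProper f] (C₁ C₂ : Set X),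
      (∀ x : X, I ≤ (f x).asIdeal) → IsClosed C₁ → IsClosed C₂ →
      Disjoint C₁ C₂ → (∀ x : X, f x = IsLocalRing.closedPoint A ↔ x ∈ C₁ ∪ C₂) →
      ∃ V : Set X, IsClopen V ∧ C₁ ⊆ V ∧ Disjoint C₂ V from
    fun {X} f _ C₁ C₂ h₁ h₂ hd hF ↦ key ⊥ f C₁ C₂ (fun _ ↦ bot_le) h₁ h₂ hd hF
  intro I
  induction I using WellFoundedGT.induction with
  | _ I IH =>
    intro X f _ C₁ C₂ hI h₁ h₂ hdisj hF
    by_cases hIm : IsLocalRing.maximalIdeal A ≤ I
    · -- everything lies over the closed point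
      have hall : ∀ x, x ∈ C₁ ∪ C₂ := fun x ↦ (hF x).mp (PrimeSpectrum.ext
        ((IsLocalRing.maximalIdeal.isMaximal A).eq_of_le (f x).isPrime.ne_top (hIm.trans (hI x))).symm)
      refine ⟨C₁, ⟨h₁, ?_⟩, subset_rfl, hdisj.symm⟩
      rw [show C₁ = C₂ᶜ from Set.ext fun x ↦ ⟨fun h ↦ hdisj.notMem_of_mem_left h,
        fun h ↦ (hall x).resolve_right h⟩]
      exact h₂.isOpen_compl
    obtain ⟨a, ham, haI⟩ := Set.not_subset.mp hIm
    letI : X.Over (Spec (CommRingCat.of A)) := ⟨f⟩
    -- the zero locus of `a`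
    let Z : TopologicalSpace.Closeds X := ⟨(X.basicOpen (rho A a) : Set X)ᶜ, (X.basicOpen (rho A a)).2.isClosed_compl⟩
    let Z' : TopologicalSpace.Closeds X := ⟨closure (X.basicOpen (rho A a) : Set X), isClosed_closure⟩
    let i := (Scheme.IdealSheafData.vanishingIdeal Z).subschemeι
    have hrange : Set.range i = (Z : Set X) := DvrDom.range_vanishingIdeal_subschemeι Z
    have hZa : ∀ x ∈ (Z : Set X), a ∈ (f x).asIdeal := fun x hx ↦
      not_not.mp fun h ↦ hx ((mem_basicOpen_rho A a x).mpr h)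
    obtain ⟨V₂, hV₂, hV₂C₁, hV₂C₂⟩ := IH (I ⊔ Ideal.span {a})
      (lt_of_le_of_ne le_sup_left fun h ↦ haI (h.ge (Ideal.mem_sup_right (Ideal.mem_span_singleton_self a))))
      (i ≫ f) (i ⁻¹' C₁) (i ⁻¹' C₂)
      (fun p ↦ by
        rw [Scheme.Hom.comp_apply, sup_le_iff, Ideal.span_singleton_le_iff_mem]
        exact ⟨hI _, hZa _ (hrange ▸ ⟨p, rfl⟩)⟩)
      (h₁.preimage i.continuous) (h₂.preimage i.continuous) (hdisj.preimage _)
      (fun p ↦ by rw [Scheme.Hom.comp_apply]; exact hF _)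
    -- the closure of the locus where `a` is invertible
    let j := (Scheme.IdealSheafData.vanishingIdeal Z').subschemeι
    have hrange' : Set.range j = (Z' : Set X) := DvrDom.range_vanishingIdeal_subschemeι Z'
    let X' := (Scheme.IdealSheafData.vanishingIdeal Z').subscheme
    haveI : AlgebraicGeometry.IsReduced X' := DvrDom.isReduced_vanishingIdeal_subscheme Z'
    letI : X'.Over (Spec (CommRingCat.of A)) := ⟨j ≫ f⟩
    haveI : IsProper (X' ↘ Spec (CommRingCat.of A)) := inferInstanceAs (IsProper (j ≫ f))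
    have hfj : ∀ q, (X' ↘ Spec (CommRingCat.of A)) q = f (j q) := fun q ↦ Scheme.Hom.comp_apply j f q
    have hbo : ∀ q : X', q ∈ X'.basicOpen (rho A a) ↔ j q ∈ X.basicOpen (rho A a) := fun q ↦ by
      rw [mem_basicOpen_rho, mem_basicOpen_rho, hfj]
      rfl
    haveI : IsLocallyNoetherian X := LocallyOfFiniteType.isLocallyNoetherian f
    haveI : CompactSpace X := QuasiCompact.compactSpace_of_compactSpace f
    haveI : IsNoetherian X := {}
    haveI := mono_smulAb_of_dense A a (X := X') fun q ↦ by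
      -- points of the closure have generisations in the open
      obtain ⟨ξ, hξ, hξq⟩ := ConsEngine.exists_specializes_of_mem_closure
        (E := (X.basicOpen (rho A a) : Set X)) (by
          have h := ConsTop.isLocallyConstructible_compl
            (ConsEngine.isLocallyConstructible_of_isClosed (Z := X) (X.basicOpen (rho A a)).2.isClosed_compl)
          rwa [compl_compl] at h)
        (show j q ∈ closure (X.basicOpen (rho A a) : Set X) from hrange'.le ⟨q, rfl⟩)
      obtain ⟨ξ', rfl⟩ : ξ ∈ Set.range j := hrange'.ge (subset_closure hξ)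
      exact ⟨ξ', j.isEmbedding.isInducing.specializes_iff.mp hξq, (hbo ξ').mpr hξ⟩
    let e := i.isEmbedding
    obtain ⟨V₁, hV₁, hV₁'⟩ := exists_clopen_of_zeroLocus A a (X := X') ham
      (j ⁻¹' (i '' V₂)) (j ⁻¹' (i '' V₂ᶜ))
      ((i.isClosedEmbedding.isClosedMap _ hV₂.1).preimage j.continuous)
      ((i.isClosedEmbedding.isClosedMap _ hV₂.compl.1).preimage j.continuous)
      (((Set.disjoint_image_iff e.injective).mpr disjoint_compl_right).preimage _)
      (fun q hq ↦ by
        obtain ⟨p, hp⟩ : j q ∈ Set.range i := hrange ▸ (fun h ↦ hq ((hbo q).mpr h))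
        by_cases h : p ∈ V₂
        · exact Or.inl ⟨p, h, hp⟩
        · exact Or.inr ⟨p, h, hp⟩)
    let V := i '' V₂ ∪ j '' V₁
    let W := i '' V₂ᶜ ∪ j '' V₁ᶜ
    have hVc : IsClosed V :=
      (i.isClosedEmbedding.isClosedMap _ hV₂.1).union (j.isClosedEmbedding.isClosedMap _ hV₁.1)
    have hWc : IsClosed W :=
      (i.isClosedEmbedding.isClosedMap _ hV₂.compl.1).union (j.isClosedEmbedding.isClosedMap _ hV₁.compl.1)
    have hVW : ∀ x, x ∈ V ∪ W := fun x ↦ by
      by_cases hx : x ∈ X.basicOpen (rho A a)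
      · obtain ⟨q, rfl⟩ : x ∈ Set.range j := hrange'.ge (subset_closure hx)
        by_cases h : q ∈ V₁
        · exact Or.inl (Or.inr ⟨q, h, rfl⟩)
        · exact Or.inr (Or.inr ⟨q, h, rfl⟩)
      · obtain ⟨p, rfl⟩ : x ∈ Set.range i := hrange.ge hx
        by_cases h : p ∈ V₂
        · exact Or.inl (Or.inl ⟨p, h, rfl⟩)
        · exact Or.inr (Or.inl ⟨p, h, rfl⟩)
    have hzero : ∀ q : X', f (j q) = IsLocalRing.closedPoint A → j q ∈ Set.range i := fun q hq ↦
      hrange.ge fun h ↦ by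
        have := (mem_basicOpen_rho A a (j q)).mp h
        rw [show (X ↘ Spec (CommRingCat.of A)) (j q) = IsLocalRing.closedPoint A from hq] at this
        exact this ham
    have hVF : ∀ x ∈ V, f x = IsLocalRing.closedPoint A → x ∈ C₁ := by
      rintro x (⟨p, hp, rfl⟩ | ⟨q, hq, rfl⟩) hx
      · exact ((hF _).mp hx).resolve_right fun h ↦ hV₂C₂.notMem_of_mem_left h hp
      · refine ((hF _).mp hx).resolve_right fun h ↦ ?_
        obtain ⟨p, hp⟩ := hzero q hx
        exact (hV₁' q ((hfj q).trans hx)).2 ⟨p, hV₂C₂.notMem_of_mem_left (show i p ∈ C₂ from hp ▸ h), hp⟩ hq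
    have hWF : ∀ x ∈ W, f x = IsLocalRing.closedPoint A → x ∈ C₂ := by
      rintro x (⟨p, hp, rfl⟩ | ⟨q, hq, rfl⟩) hx
      · exact ((hF _).mp hx).resolve_left fun h ↦ hp (hV₂C₁ h)
      · refine ((hF _).mp hx).resolve_left fun h ↦ ?_
        obtain ⟨p, hp⟩ := hzero q hx
        exact hq ((hV₁' q ((hfj q).trans hx)).1 ⟨p, hV₂C₁ (show i p ∈ C₁ from hp ▸ h), hp⟩)
    have hdVW : Disjoint V W := by
      rw [Set.disjoint_iff_inter_eq_empty]
      by_contra h
      obtain ⟨x, ⟨hxV, hxW⟩, hx⟩ := exists_mem_closedFibre f (V ∩ W) (hVc.inter hWc)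
        (Set.nonempty_iff_ne_empty.mpr h)
      exact hdisj.notMem_of_mem_left (hVF x hxV hx) (hWF x hxW hx)
    refine ⟨V, ⟨hVc, ?_⟩, fun x hx ↦ ?_, Set.disjoint_left.mpr fun x hx hxV ↦ ?_⟩
    · rw [show V = Wᶜ from Set.ext fun x ↦ ⟨fun h ↦ hdVW.notMem_of_mem_left h, fun h ↦ (hVW x).resolve_right h⟩]
      exact hWc.isOpen_compl
    · exact (hVW x).resolve_right fun h ↦ hdisj.notMem_of_mem_left hx (hWF x h ((hF x).mpr (Or.inl hx)))
    · exact hdisj.notMem_of_mem_left (hVF x hxV ((hF x).mpr (Or.inr hx))) hx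

end Groth.Agent.ZarConn
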